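import Cfsg.Agent.Lib.CosetEnum.Chain

/-!
Base-and-strong-generator lower bounds for the order of a permutation image.
-/

set_option autoImplicit false

namespace CfsgLib.CosetEnum

/-- Orbit certificate: entry `i` is the image of an earlier entry under one of the columns. -/
noncomputable def stepOK (T : List Tr) (P par pos : Tr) (nl i : ℕ) : Bool :=
  strict (P.get 20 i) fun p => Nat.beq (pos.get 20 p) i &&
    strict (par.get 24 i) fun d => strict (d >>> 4) fun j => strict (d &&& 15) fun x =>
      Nat.beq i 0 || (Nat.blt j i && Nat.blt x nl && Nat.beq (act T x (P.get 20 j)) p)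

/-- New columns are the compositions of words in the old ones. -/
noncomputable def compOK (T T' : List Tr) (ws : List (List ℕ)) (k : ℕ) : Bool :=
  allFrom (fun j => Nat.beq (scan T (ws.getD j []) k) (act T' j k)) T'.length 0

variable {G : Type*} [Group G] {n : ℕ} (π : G →* Equiv.Perm (Fin n))

/-- Every column of `T` is the action of an element of `K`. -/
def Realised (K : Subgroup G) (T : List Tr) : Prop :=
  ∀ j < T.length, ∃ z ∈ K, ∀ k : Fin n, ((π z k : Fin n) : ℕ) = act T j k

theorem realised_scan {K : Subgroup G} {T : List Tr} (hT : Realised π K T) :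
    ∀ l : List ℕ, (∀ x ∈ l, x < T.length) → ∃ z ∈ K, ∀ k : Fin n, ((π z k : Fin n) : ℕ) = scan T l k := by
  intro l
  induction l with
  | nil => exact fun _ => ⟨1, K.one_mem, fun k => by simp [scan_nil]⟩
  | cons x rest ih =>
    intro hl
    obtain ⟨z, hz, hzk⟩ := hT x (hl x (by simp))
    obtain ⟨w, hw, hwk⟩ := ih fun y hy => hl y (List.mem_cons_of_mem _ hy)
    refine ⟨w * z, K.mul_mem hw hz, fun k => ?_⟩
    rw [map_mul, Equiv.Perm.mul_apply, hwk, hzk, scan_cons]

/-- One step down a base. -/
theorem base_step {K : Subgroup G} {T : List Tr} (hT : Realised π K T) [Finite K]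
    (T' : List Tr) (ws : List (List ℕ)) (P par pos : Tr) (b N : ℕ) (hb : b < n) (hP : Nat.beq (P.get 20 0) b = true)
    (hstep : ∀ i < N, stepOK T P par pos T.length i = true)
    (hws : (ws.all fun l => l.all fun x => decide (x < T.length)) = true)
    (hlen : ws.length = T'.length) (hcomp : ∀ k < n, compOK T T' ws k = true)
    (hfix : fixesAll T b ws = true) :
    ∃ H : Subgroup G, Finite H ∧ Realised π H T' ∧ N * Nat.card H ≤ Nat.card K := by
  classical
  let S : Subgroup G :=
    { carrier := {z | π z ⟨b, hb⟩ = ⟨b, hb⟩}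
      one_mem' := by simp
      mul_mem' := fun {x y} hx hy => by
        simp only [Set.mem_ofPred_eq] at *
        rw [map_mul, Equiv.Perm.mul_apply, hy, hx]
      inv_mem' := fun {x} hx => by
        simp only [Set.mem_ofPred_eq] at *
        rw [map_inv, Equiv.Perm.inv_def, Equiv.symm_apply_eq]
        exact hx.symm }
  have hfin : Finite (K ⊓ S : Subgroup G) := Finite.of_injective _ (Subgroup.inclusion_injective inf_le_left)
  refine ⟨K ⊓ S, hfin, fun j hj => ?_, ?_⟩
  · simp only [List.all_eq_true, decide_eq_true_eq] at hws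
    have hj' : j < ws.length := hlen ▸ hj
    obtain ⟨z, hz, hzk⟩ := realised_scan π hT ws[j] (hws _ (List.getElem_mem hj'))
    refine ⟨z, Subgroup.mem_inf.mpr ⟨hz, Fin.ext ?_⟩, fun k => ?_⟩
    · rw [hzk]
      exact fixesAll_spec _ _ _ hfix _ (List.getElem_mem hj')
    · have := Nat.eq_of_beq_eq_true (allFrom_spec _ _ _ (hcomp k k.2) j (Nat.zero_le _) (by omega))
      rw [List.getD_eq_getElem _ _ hj'] at this
      rw [hzk, this]
  · have hspec : ∀ i < N, pos.get 20 (P.get 20 i) = i ∧ (i = 0 ∨ (par.get 24 i >>> 4 < i ∧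
        par.get 24 i &&& 15 < T.length ∧ act T (par.get 24 i &&& 15) (P.get 20 (par.get 24 i >>> 4)) = P.get 20 i)) := by
      intro i hi
      have h := hstep i hi
      unfold stepOK at h
      simp only [strict_eq, Bool.and_eq_true, Bool.or_eq_true] at h
      refine ⟨Nat.eq_of_beq_eq_true h.1, ?_⟩
      rcases h.2 with h0 | ⟨⟨h1, h2⟩, h3⟩
      · exact Or.inl (Nat.eq_of_beq_eq_true h0)
      · exact Or.inr ⟨Nat.le_of_ble_eq_true h1, Nat.le_of_ble_eq_true h2, Nat.eq_of_beq_eq_true h3⟩
    have hreach : ∀ i < N, ∃ z : K, ((π (z : G) ⟨b, hb⟩ : Fin n) : ℕ) = P.get 20 i := by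
      intro i
      induction i using Nat.strong_induction_on with
      | _ i ih =>
        intro hi
        rcases (hspec i hi).2 with h0 | ⟨hj, hx, hxe⟩
        · exact ⟨1, by simp [h0, Nat.eq_of_beq_eq_true hP]⟩
        · obtain ⟨z, hz⟩ := ih _ hj (by omega)
          obtain ⟨y, hy, hyk⟩ := hT _ hx
          refine ⟨⟨y, hy⟩ * z, ?_⟩
          rw [Subgroup.coe_mul, map_mul, Equiv.Perm.mul_apply, hyk, hz, hxe]
    choose z hz using hreach
    have hinj : Function.Injective
        (fun p : Fin N × (K ⊓ S : Subgroup G) => z p.1 p.1.2 * (⟨p.2, (Subgroup.mem_inf.mp p.2.2).1⟩ : K)) := by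
      rintro ⟨i, u⟩ ⟨j, v⟩ h
      have hval : ∀ (i : Fin N) (u : (K ⊓ S : Subgroup G)),
          ((π ((z i i.2 * (⟨u, (Subgroup.mem_inf.mp u.2).1⟩ : K) : K) : G) ⟨b, hb⟩ : Fin n) : ℕ) = P.get 20 i := by
        intro i u
        have hu : π (u : G) ⟨b, hb⟩ = ⟨b, hb⟩ := (Subgroup.mem_inf.mp u.2).2
        rw [Subgroup.coe_mul, map_mul, Equiv.Perm.mul_apply, hu]
        exact hz _ _
      have hij : P.get 20 i = P.get 20 j := by
        rw [← hval i u, ← hval j v]
        simp only at h
        rw [h]
      obtain rfl : i = j := Fin.ext (by rw [← (hspec i i.2).1, hij, (hspec j j.2).1])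
      simp only [mul_right_inj] at h
      exact Prod.ext rfl (Subtype.ext (by simpa using congrArg Subtype.val h))
    have := Nat.card_le_card_of_injective _ hinj
    rwa [Nat.card_prod, Nat.card_fin] at this

theorem realised_top (g : ℕ → G) {T : List Tr} {ip : ℕ} (hip : ipOK ip = true)
    (hrow : ∀ k < n, rowOK T ip n k = true) (hπ : ∀ x < 16, π (g x) = permOf T ip n hip hrow x)
    (hT : T.length ≤ 16) : Realised π ⊤ T := fun j hj =>
  ⟨g (linv ip j), trivial, fun k => pi_linv_apply T ip n hip hrow π g hπ (by omega) k⟩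

/-- Combine one step with a bound for the next. -/
theorem le_of_step {K : Subgroup G} {T' : List Tr} {N c : ℕ}
    (h : ∃ H : Subgroup G, Finite H ∧ Realised π H T' ∧ N * Nat.card H ≤ Nat.card K)
    (hrest : ∀ H : Subgroup G, Finite H → Realised π H T' → c ≤ Nat.card H) : N * c ≤ Nat.card K := by
  obtain ⟨H, hfin, hr, hle⟩ := h
  exact (Nat.mul_le_mul_left N (hrest H hfin hr)).trans hle

theorem one_le_card (K : Subgroup G) [Finite K] : 1 ≤ Nat.card K := Nat.card_pos

end CfsgLib.CosetEnum
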