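import Mathlib

/-!
Kernel-checkable certificates for coset enumerations.

A certificate is a numbered list of facts `(a, x, b)` about coset representatives `u : ℕ → G`, meaning
`u a * g x * (u b)⁻¹ ∈ H`, where the letter `15` stands for the identity.  The facts `0 .. N-2` define the
representatives; each later fact follows from earlier ones along a path whose label closes up to a word
that is trivial in `G` (or, at the base representative, to a word that lies in `H`).
-/

set_option autoImplicit false

namespace CfsgLib.CosetEnum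

/-- Forces evaluation of a natural number before continuing. -/
def strict {α : Type*} (n : ℕ) (k : ℕ → α) : α := Nat.rec (k 0) (fun m _ => k (m + 1)) n

theorem strict_eq {α : Type*} (n : ℕ) (k : ℕ → α) : strict n k = k n := by
  cases n <;> rfl

/-- A two-level array of natural numbers: a binary tree with packed leaves. -/
inductive Tr : Type
  | leaf (v : ℕ)
  | node (m : ℕ) (l r : Tr)

/-- Read entry `i` of width `w` bits. -/
noncomputable def Tr.get (w : ℕ) (t : Tr) : ℕ → ℕ :=
  Tr.rec (motive := fun _ => ℕ → ℕ) (fun v i => (v >>> (i * w)) &&& (2 ^ w - 1))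
    (fun m _ _ gl gr i => Bool.rec (motive := fun _ => ℕ) (gr (i - m)) (gl i) (Nat.blt i m)) t

/-- Source of a packed fact. -/
def fA (e : ℕ) : ℕ := e &&& 1048575
/-- Target of a packed fact. -/
def fB (e : ℕ) : ℕ := (e >>> 20) &&& 1048575
/-- Letter of a packed fact. -/
def fX (e : ℕ) : ℕ := (e >>> 40) &&& 15

/-- Inverse of a letter, read from a packed table. -/
def linv (ip x : ℕ) : ℕ := (ip >>> (4 * x)) &&& 15

/-- Append a letter to a packed label, skipping the identity letter. -/
def push (acc x : ℕ) : ℕ := Bool.rec (acc * 16 + x) acc (Nat.beq x 15)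

/-- Walk a packed path of earlier fact references, stopping at the end or at the marker `16777215`;
`fin` receives the end point, the label and what remains of the path. -/
noncomputable def walk (F : Tr) (ip j : ℕ) (fin : ℕ → ℕ → ℕ → Bool) : ℕ → ℕ → ℕ → ℕ → Bool :=
  fun fuel => Nat.rec (fun _ _ _ => false)
    (fun _ ih cur acc p =>
      strict cur fun cur => strict acc fun acc => strict p fun p =>
        strict (p &&& 16777215) fun d =>
          Bool.rec
            (strict ((d - 1) >>> 1) fun f =>
              Nat.blt f j && strict (F.get 48 f) fun e =>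
                Bool.rec
                  (Nat.beq cur (fB e) && ih (fA e) (push acc (linv ip (fX e))) (p >>> 24))
                  (Nat.beq cur (fA e) && ih (fB e) (push acc (fX e)) (p >>> 24))
                  (Nat.beq ((d - 1) &&& 1) 0))
            (fin cur acc p)
            (Nat.beq d 0 || Nat.beq d 16777215)) fuel

/-- Check one fact. The item's lowest bit selects the rule, the next 20 bits the word, the rest is the path. -/
noncomputable def checkFact (F : Tr) (ip : ℕ) (W : Tr) (wb : ℕ) (S : Tr) (N j item : ℕ) : Bool :=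
  strict (F.get 48 j) fun e =>
    Bool.rec
      (strict ((item >>> 1) &&& 1048575) fun wid =>
        Bool.rec
          (walk F ip j
            (fun cur acc rest => Nat.beq cur (fA e) &&
              walk F ip j
                (fun cur' acc' rest' => Nat.beq cur' 0 && Nat.beq rest' 0 && Nat.beq acc' (S.get wb wid))
                1024 (fB e) (push acc (fX e)) (rest >>> 24))
            1024 0 1 (item >>> 21))
          (walk F ip j
            (fun cur acc rest => Nat.beq cur (fB e) && Nat.beq rest 0 &&
              Nat.beq (push acc (linv ip (fX e))) (W.get wb wid))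
            1024 (fA e) 1 (item >>> 21))
          (Nat.beq (item &&& 1) 0))
      (Nat.blt (fA e) (j + 1) && Nat.beq (fB e) (j + 1))
      (Nat.blt (j + 1) N)

/-- Check consecutive facts starting at `j`. -/
noncomputable def checkFacts (F : Tr) (ip : ℕ) (W : Tr) (wb : ℕ) (S : Tr) (N : ℕ) (items : List ℕ) : ℕ → Bool :=
  List.rec (fun _ => true)
    (fun it _ ih j => strict j fun j => checkFact F ip W wb S N j it && ih (j + 1)) items

/-- Check one final table entry: coset `k` times letter `x`. -/
noncomputable def checkEntry (F : Tr) (ip : ℕ) (L E : Tr) (n nl nf k x : ℕ) (col : Tr) : Bool :=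
  strict (col.get 20 k) fun k' => Nat.blt k' n &&
    strict (E.get 24 (k * nl + x)) fun d => strict ((d - 1) >>> 1) fun f =>
      Nat.blt f nf && strict (F.get 48 f) fun e =>
        Bool.rec (motive := fun _ => Bool)
          (Nat.beq (fB e) (L.get 20 k) && Nat.beq (fA e) (L.get 20 k') && Nat.beq (linv ip (fX e)) x)
          (Nat.beq (fA e) (L.get 20 k) && Nat.beq (fB e) (L.get 20 k') && Nat.beq (fX e) x)
          (Nat.beq ((d - 1) &&& 1) 0)

/-- Check all entries of coset `k`, starting from letter `x`. -/
noncomputable def checkRow (F : Tr) (ip : ℕ) (L E : Tr) (n nl nf k : ℕ) (T : List Tr) : ℕ → Bool :=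
  List.rec (motive := fun _ => ℕ → Bool) (fun _ => true)
    (fun col _ ih x => strict x fun x => checkEntry F ip L E n nl nf k x col && ih (x + 1)) T

/-- Check the final table entries of the cosets `k .. k + c - 1`. -/
noncomputable def checkRows (F : Tr) (ip : ℕ) (L E : Tr) (T : List Tr) (n nl nf : ℕ) (c : ℕ) : ℕ → Bool :=
  Nat.rec (motive := fun _ => ℕ → Bool) (fun _ => true)
    (fun _ ih k => strict k fun k => checkRow F ip L E n nl nf k T 0 && ih (k + 1)) c

/-- Evaluate a packed label. -/
noncomputable def evalCode {G : Type*} [Group G] (g : ℕ → G) (c : ℕ) : G :=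
  if _h : c < 16 then 1 else evalCode g (c / 16) * g (c % 16)
termination_by c
decreasing_by omega

/-- The coset representatives described by the defining facts. -/
noncomputable def rep {G : Type*} [Group G] (g : ℕ → G) (F : Tr) : ℕ → G
  | 0 => 1
  | m + 1 => if _h : fA (F.get 48 m) < m + 1 then rep g F (fA (F.get 48 m)) * g (fX (F.get 48 m)) else 1
termination_by m => m

section Sound

variable {G : Type*} [Group G] (g : ℕ → G)

theorem evalCode_one : evalCode g 1 = 1 := by
  rw [evalCode, dif_pos (by norm_num)]

theorem evalCode_push (acc x : ℕ) (h15 : g 15 = 1) (hacc : 1 ≤ acc) (hx : x < 16) :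
    evalCode g (push acc x) = evalCode g acc * g x := by
  unfold push
  rcases hb : Nat.beq x 15 with _ | _
  · show evalCode g (acc * 16 + x) = _
    rw [evalCode, dif_neg (by omega)]
    congr 2 <;> omega
  · have : x = 15 := Nat.eq_of_beq_eq_true hb
    show evalCode g acc = _
    rw [this, h15, mul_one]

theorem one_le_push (acc x : ℕ) (h : 1 ≤ acc) : 1 ≤ push acc x := by
  unfold push
  rcases Nat.beq x 15 with _ | _
  · show 1 ≤ acc * 16 + x
    omega
  · exact h

theorem fX_lt (e : ℕ) : fX e < 16 :=
  Nat.lt_succ_of_le Nat.and_le_right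

theorem linv_lt (ip x : ℕ) : linv ip x < 16 :=
  Nat.lt_succ_of_le Nat.and_le_right

/-- The meaning of a fact. -/
def Holds (H : Subgroup G) (u : ℕ → G) (a x b : ℕ) : Prop := u a * g x * (u b)⁻¹ ∈ H

variable {g} {H : Subgroup G} {u : ℕ → G} {ip : ℕ}

theorem Holds.symm (hinv : ∀ x < 16, g (linv ip x) = (g x)⁻¹) {a x b : ℕ} (hx : x < 16)
    (h : Holds g H u a x b) : Holds g H u b (linv ip x) a := by
  have h' := H.inv_mem h
  unfold Holds at *
  rw [hinv x hx]
  simpa [mul_assoc] using h'

theorem walk_sound (h15 : g 15 = 1) (hinv : ∀ x < 16, g (linv ip x) = (g x)⁻¹)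
    (F : Tr) (j : ℕ) (fin : ℕ → ℕ → ℕ → Bool)
    (IH : ∀ f < j, Holds g H u (fA (F.get 48 f)) (fX (F.get 48 f)) (fB (F.get 48 f))) :
    ∀ (fuel cur acc p : ℕ), 1 ≤ acc → walk F ip j fin fuel cur acc p = true →
      ∃ cur' acc' p', fin cur' acc' p' = true ∧ 1 ≤ acc' ∧
        ∀ h0 : G, h0 * evalCode g acc * (u cur)⁻¹ ∈ H ↔ h0 * evalCode g acc' * (u cur')⁻¹ ∈ H := by
  intro fuel
  induction fuel with
  | zero => intro cur acc p _ h; simp [walk] at h
  | succ fuel ih =>
    intro cur acc p hacc h
    unfold walk at h
    simp only [strict_eq] at h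
    rcases hd : (Nat.beq (p &&& 16777215) 0 || Nat.beq (p &&& 16777215) 16777215) with _ | _
    · rw [hd] at h
      simp only at h
      rw [Bool.and_eq_true] at h
      obtain ⟨hf, h⟩ := h
      set f := ((p &&& 16777215) - 1) >>> 1 with hfdef
      have hD := IH f (Nat.le_of_ble_eq_true hf)
      rcases hdir : Nat.beq (((p &&& 16777215) - 1) &&& 1) 0 with _ | _
      · rw [hdir] at h
        simp only [Bool.and_eq_true] at h
        obtain ⟨hc, h⟩ := h
        have hc := Nat.eq_of_beq_eq_true hc
        obtain ⟨c', a', p', h1, h2, h3⟩ := ih (fA (F.get 48 f)) (push acc (linv ip (fX (F.get 48 f)))) (p >>> 24)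
          (one_le_push _ _ hacc) (by unfold walk; simp only [strict_eq]; exact h)
        refine ⟨c', a', p', h1, h2, fun h0 => ?_⟩
        rw [← h3 h0, evalCode_push g _ _ h15 hacc (linv_lt _ _)]
        have key := hD.symm hinv (fX_lt _)
        unfold Holds at key
        rw [← hc] at key
        rw [← Subgroup.mul_mem_cancel_right H key]
        simp [mul_assoc]
      · rw [hdir] at h
        simp only [Bool.and_eq_true] at h
        obtain ⟨hc, h⟩ := h
        have hc := Nat.eq_of_beq_eq_true hc
        obtain ⟨c', a', p', h1, h2, h3⟩ := ih (fB (F.get 48 f)) (push acc (fX (F.get 48 f))) (p >>> 24)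
          (one_le_push _ _ hacc) (by unfold walk; simp only [strict_eq]; exact h)
        refine ⟨c', a', p', h1, h2, fun h0 => ?_⟩
        rw [← h3 h0, evalCode_push g _ _ h15 hacc (fX_lt _)]
        unfold Holds at hD
        rw [← hc] at hD
        rw [← Subgroup.mul_mem_cancel_right H hD]
        simp [mul_assoc]
    · rw [hd] at h
      exact ⟨cur, acc, p, h, hacc, fun _ => Iff.rfl⟩

theorem checkFact_sound (h15 : g 15 = 1) (hinv : ∀ x < 16, g (linv ip x) = (g x)⁻¹)
    (F : Tr) (W : Tr) (wb : ℕ) (S : Tr) (N : ℕ)
    (hW : ∀ i, evalCode g (W.get wb i) = 1) (hS : ∀ i, evalCode g (S.get wb i) ∈ H)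
    (j item : ℕ)
    (IH : ∀ f < j, Holds g H (rep g F) (fA (F.get 48 f)) (fX (F.get 48 f)) (fB (F.get 48 f)))
    (h : checkFact F ip W wb S N j item = true) :
    Holds g H (rep g F) (fA (F.get 48 j)) (fX (F.get 48 j)) (fB (F.get 48 j)) := by
  unfold checkFact at h
  simp only [strict_eq] at h
  set e := F.get 48 j with he
  rcases hN : Nat.blt (j + 1) N with _ | _
  · rw [hN] at h
    rcases hb : Nat.beq (item &&& 1) 0 with _ | _
    · rw [hb] at h
      obtain ⟨c, a, p, h1, ha, h2⟩ := walk_sound (u := rep g F) (H := H) h15 hinv F j _ IH _ _ _ _ le_rfl h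
      simp only [Bool.and_eq_true] at h1
      obtain ⟨hca, h1⟩ := h1
      obtain ⟨c', a', p', h1, -, h3⟩ :=
        walk_sound (u := rep g F) (H := H) h15 hinv F j _ IH _ _ _ _ (one_le_push _ _ ha) h1
      simp only [Bool.and_eq_true] at h1
      obtain ⟨⟨hc0, -⟩, hsub⟩ := h1
      have hca := Nat.eq_of_beq_eq_true hca
      have hc0 := Nat.eq_of_beq_eq_true hc0
      have hsub := Nat.eq_of_beq_eq_true hsub
      have e1 : evalCode g a * (rep g F (fA e))⁻¹ ∈ H := by
        have := (h2 1).mp (by rw [rep, evalCode_one]; simp [H.one_mem])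
        rwa [one_mul, hca] at this
      have e2 : evalCode g a * g (fX e) * (rep g F (fB e))⁻¹ ∈ H := by
        have := (h3 1).mpr (by rw [hc0, hsub, rep]; simpa using hS _)
        rwa [one_mul, evalCode_push g _ _ h15 ha (fX_lt _)] at this
      have := H.mul_mem (H.inv_mem e1) e2
      simpa [Holds, mul_assoc] using this
    · rw [hb] at h
      obtain ⟨c, a, p, h1, ha, h2⟩ := walk_sound (u := rep g F) (H := H) h15 hinv F j _ IH _ _ _ _ le_rfl h
      simp only [Bool.and_eq_true] at h1
      obtain ⟨⟨hcb, -⟩, hw⟩ := h1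
      have hcb := Nat.eq_of_beq_eq_true hcb
      have hw := Nat.eq_of_beq_eq_true hw
      have e1 := (h2 (rep g F (fA e))).mp (by rw [evalCode_one]; simp [H.one_mem])
      rw [hcb] at e1
      have e2 := congrArg (evalCode g) hw
      rw [evalCode_push g _ _ h15 ha (linv_lt _ _), hW, hinv _ (fX_lt _), mul_inv_eq_one] at e2
      rwa [e2] at e1
  · rw [hN] at h
    simp only [Bool.and_eq_true] at h
    obtain ⟨ha, hb⟩ := h
    have ha : fA e < j + 1 := Nat.le_of_ble_eq_true ha
    have hb := Nat.eq_of_beq_eq_true hb
    unfold Holds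
    rw [hb, rep, dif_pos (by rw [← he]; exact ha), ← he]
    simp [H.one_mem]

theorem checkFacts_spec (F : Tr) (ip : ℕ) (W : Tr) (wb : ℕ) (S : Tr) (N : ℕ) :
    ∀ (items : List ℕ) (j : ℕ), checkFacts F ip W wb S N items j = true →
      ∀ i, j ≤ i → i < j + items.length → ∃ item, checkFact F ip W wb S N i item = true := by
  intro items
  induction items with
  | nil => intro j _ i h1 h2; simp at h2; omega
  | cons it rest ih =>
    intro j h i h1 h2
    unfold checkFacts at h
    simp only [strict_eq, Bool.and_eq_true] at h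
    rcases Nat.eq_or_lt_of_le h1 with rfl | h1
    · exact ⟨it, h.1⟩
    · exact ih (j + 1) (by unfold checkFacts; simp only [strict_eq]; exact h.2) i h1 (by simp at h2; omega)

theorem holds_of_checked (h15 : g 15 = 1) (hinv : ∀ x < 16, g (linv ip x) = (g x)⁻¹)
    (F : Tr) (W : Tr) (wb : ℕ) (S : Tr) (N nf : ℕ)
    (hW : ∀ i, evalCode g (W.get wb i) = 1) (hS : ∀ i, evalCode g (S.get wb i) ∈ H)
    (hall : ∀ j < nf, ∃ item, checkFact F ip W wb S N j item = true) :
    ∀ j < nf, Holds g H (rep g F) (fA (F.get 48 j)) (fX (F.get 48 j)) (fB (F.get 48 j)) := by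
  intro j
  induction j using Nat.strong_induction_on with
  | _ j ih =>
    intro hj
    obtain ⟨it, hit⟩ := hall j hj
    exact checkFact_sound h15 hinv F W wb S N hW hS j it (fun f hf => ih f hf (by omega)) hit

theorem checkRow_spec (F : Tr) (ip : ℕ) (L E : Tr) (n nl nf k : ℕ) :
    ∀ (T : List Tr) (x : ℕ), checkRow F ip L E n nl nf k T x = true →
      ∀ (i : ℕ) (hi : i < T.length), checkEntry F ip L E n nl nf k (x + i) T[i] = true := by
  intro T
  induction T with
  | nil => intro x _ i hi; simp at hi
  | cons col rest ih =>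
    intro x h i hi
    unfold checkRow at h
    simp only [strict_eq, Bool.and_eq_true] at h
    cases i with
    | zero => simpa using h.1
    | succ i =>
      have := ih (x + 1) (by unfold checkRow; simp only [strict_eq]; exact h.2) i (by simpa using hi)
      simpa [Nat.add_assoc, Nat.add_comm 1 i] using this

theorem checkRows_spec (F : Tr) (ip : ℕ) (L E : Tr) (T : List Tr) (n nl nf : ℕ) :
    ∀ (c k : ℕ), checkRows F ip L E T n nl nf c k = true →
      ∀ i, k ≤ i → i < k + c → checkRow F ip L E n nl nf i T 0 = true := by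
  intro c
  induction c with
  | zero => intro k _ i h1 h2; omega
  | succ c ih =>
    intro k h i h1 h2
    unfold checkRows at h
    simp only [strict_eq, Bool.and_eq_true] at h
    rcases Nat.eq_or_lt_of_le h1 with rfl | h1
    · exact h.1
    · exact ih (k + 1) (by unfold checkRows; simp only [strict_eq]; exact h.2) i h1 (by omega)

/-- A word all of whose letters lie in `K` evaluates into `K`. -/
theorem rep_mem (K : Subgroup G) (hK : ∀ x, g x ∈ K) (F : Tr) : ∀ m, rep g F m ∈ K := by
  intro m
  induction m using Nat.strong_induction_on with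
  | _ m ih =>
    cases m with
    | zero => rw [rep]; exact K.one_mem
    | succ m =>
      rw [rep]
      split
      · exact K.mul_mem (ih _ (by assumption)) (hK _)
      · exact K.one_mem

/-- The representatives listed in the final table meet every coset of `H` inside the subgroup generated by
the letters. -/
theorem exists_coset_rep (h15 : g 15 = 1) (hinv : ∀ x < 16, g (linv ip x) = (g x)⁻¹)
    (F : Tr) (W : Tr) (wb : ℕ) (S : Tr) (N nf : ℕ) (L E : Tr) (T : List Tr) (n : ℕ)
    (hW : ∀ i, evalCode g (W.get wb i) = 1) (hS : ∀ i, evalCode g (S.get wb i) ∈ H)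
    (hall : ∀ j < nf, ∃ item, checkFact F ip W wb S N j item = true)
    (hn : 0 < n) (hL : L.get 20 0 = 0)
    (hrows : ∀ k < n, checkRow F ip L E n T.length nf k T 0 = true)
    (hgen : ∀ x < 16, x < T.length ∨ g x = 1)
    (z : G) (hz : z ∈ Subgroup.closure (g '' Set.Iio 16)) :
    ∃ k < n, z * (rep g F (L.get 20 k))⁻¹ ∈ H := by
  have hfacts := holds_of_checked (H := H) h15 hinv F W wb S N nf hW hS hall
  have step : ∀ x < 16, ∀ w : G, (∃ k < n, w * (rep g F (L.get 20 k))⁻¹ ∈ H) →
      ∃ k < n, w * g x * (rep g F (L.get 20 k))⁻¹ ∈ H := by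
    intro x hx w ⟨k, hk, hw⟩
    rcases hgen x hx with hxl | hx1
    · have he := checkRow_spec F ip L E n T.length nf k T 0 (hrows k hk) x hxl
      rw [Nat.zero_add] at he
      unfold checkEntry at he
      simp only [strict_eq, Bool.and_eq_true] at he
      obtain ⟨hk', hf, he⟩ := he
      set f := (E.get 24 (k * T.length + x) - 1) >>> 1
      have hf : f < nf := Nat.le_of_ble_eq_true hf
      have hk' : (T[x]).get 20 k < n := Nat.le_of_ble_eq_true hk'
      refine ⟨_, hk', ?_⟩
      have hD := hfacts f hf
      suffices key : Holds g H (rep g F) (L.get 20 k) x (L.get 20 ((T[x]).get 20 k)) by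
        have := H.mul_mem hw key
        simpa [Holds, mul_assoc] using this
      rcases hd : Nat.beq ((E.get 24 (k * T.length + x) - 1) &&& 1) 0 with _ | _
      · rw [hd] at he
        simp only [Bool.and_eq_true] at he
        obtain ⟨⟨h1, h2⟩, h3⟩ := he
        have := hD.symm hinv (fX_lt _)
        rwa [Nat.eq_of_beq_eq_true h1, Nat.eq_of_beq_eq_true h2, Nat.eq_of_beq_eq_true h3] at this
      · rw [hd] at he
        simp only [Bool.and_eq_true] at he
        obtain ⟨⟨h1, h2⟩, h3⟩ := he
        rwa [Nat.eq_of_beq_eq_true h1, Nat.eq_of_beq_eq_true h2, Nat.eq_of_beq_eq_true h3] at hD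
    · exact ⟨k, hk, by rwa [hx1, mul_one]⟩
  induction hz using Subgroup.closure_induction_right with
  | one => exact ⟨0, hn, by rw [hL, rep]; simp [H.one_mem]⟩
  | mul_right w _ y hy ih =>
    obtain ⟨x, hx, rfl⟩ := hy
    exact step x hx w ih
  | mul_inv_cancel w _ y hy ih =>
    obtain ⟨x, hx, rfl⟩ := hy
    rw [← hinv x hx]
    exact step _ (linv_lt _ _) w ih

end Sound

end CfsgLib.CosetEnum
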