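import Cfsg.Agent.Lib.CosetEnum.Index

/-!
Subgroups generated by some of the letters, and one step of an order chain.
-/

set_option autoImplicit false

namespace CfsgLib.CosetEnum

variable {G : Type*} [Group G]

/-- The subgroup generated by the letters in `sel`. -/
def Level (g : ℕ → G) (sel : List ℕ) : Subgroup G := Subgroup.closure {z | ∃ x ∈ sel, z = g x}

theorem mem_level (g : ℕ → G) {sel : List ℕ} {x : ℕ} (hx : x ∈ sel) : g x ∈ Level g sel :=
  Subgroup.subset_closure ⟨x, hx, rfl⟩

theorem level_nil (g : ℕ → G) : Level g [] = ⊥ := by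
  simp [Level]

theorem level_mono (g : ℕ → G) {a b : List ℕ} (h : ∀ x ∈ a, x ∈ b) : Level g a ≤ Level g b :=
  Subgroup.closure_mono fun _ ⟨x, hx, e⟩ => ⟨x, h x hx, e⟩

theorem card_level_nil (g : ℕ → G) : Finite (Level g []) ∧ Nat.card (Level g []) = 1 := by
  rw [level_nil]
  exact ⟨inferInstance, Subgroup.card_bot⟩

/-- Local letters are consistent with the global ones. -/
noncomputable def selOK (sel : List ℕ) (ip ip' : ℕ) : Bool :=
  Nat.ble sel.length 15 && allFrom (fun x => Nat.beq (sel.getD (linv ip' x) 15) (linv ip (sel.getD x 15))) 16 0 &&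
    allFrom (fun x => Nat.blt (sel.getD x 15) 16) 16 0

theorem getD_lt {sel : List ℕ} {ip ip' : ℕ} (h : selOK sel ip ip' = true) (i : ℕ) : sel.getD i 15 < 16 := by
  unfold selOK at h
  simp only [Bool.and_eq_true] at h
  rcases Nat.lt_or_ge i 16 with hi | hi
  · exact Nat.le_of_ble_eq_true (allFrom_spec _ _ _ h.2 i (Nat.zero_le _) (by omega))
  · rw [List.getD_eq_default _ _ (by have := Nat.le_of_ble_eq_true h.1.1; omega)]; omega

variable {g : ℕ → G} {ip : ℕ}

/-- Coset bound for one level from a certificate in local letters. -/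
theorem covers_level (h15 : g 15 = 1) (hinv : ∀ x < 16, g (linv ip x) = (g x)⁻¹)
    (ls : List (List ℕ)) (hls : ∀ l ∈ ls, (∀ x ∈ l, x < 16) ∧ (l.map g).prod = 1)
    (sel sub : List ℕ) (ip' : ℕ) (hsel : selOK sel ip ip' = true)
    (ls' lsub : List (List ℕ)) (hls' : (ls'.all fun l => l.all (fun x => x < 16) && decide (l.map (fun x => sel.getD x 15) ∈ ls)) = true)
    (hlsub : (lsub.all fun l => match l with
      | [x] => decide (x < 16) && decide (sel.getD x 15 ∈ sub)
      | _ => false) = true)
    (F W S L E : Tr) (T : List Tr) (wb per N nf n nl : ℕ) (hnl : sel.length = nl) (hT : T.length = nl) (hn : 0 < n)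
    (hWf : W.fits wb per = true) (hWe : listEq (W.entries wb per) (allCodes ip' nl ls') = true)
    (hSf : S.fits wb per = true) (hSe : listEq (S.entries wb per) (subCodes ip' lsub) = true)
    (hall : ∀ j < nf, ∃ item, checkFact F ip' W wb S N j item = true)
    (hL : Nat.beq (L.get 20 0) 0 = true) (hrows : ∀ k < n, checkRow F ip' L E n nl nf k T 0 = true) :
    CoversCosets (Level g sel) (Level g sub) n := by
  have hlt : ∀ i, sel.getD i 15 < 16 := getD_lt hsel
  have hlen : sel.length ≤ 15 := by
    unfold selOK at hsel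
    simp only [Bool.and_eq_true] at hsel
    exact Nat.le_of_ble_eq_true hsel.1.1
  refine coversCosets_of_cert (g := fun x => g (sel.getD x 15)) (ip := ip') ?_ ?_ nl (by omega) ?_ _ _ ?_ ls' ?_ lsub ?_
    F W S L E T wb per per N nf n hT hn hWf hWe hSf hSe hall hL hrows
  · show g (sel.getD 15 15) = 1
    rw [List.getD_eq_default _ _ (by omega)]; exact h15
  · intro x hx
    unfold selOK at hsel
    simp only [Bool.and_eq_true] at hsel
    show g (sel.getD (linv ip' x) 15) = _
    rw [Nat.eq_of_beq_eq_true (allFrom_spec _ _ _ hsel.1.2 x (Nat.zero_le _) (by omega)), hinv _ (hlt x)]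
  · intro x _
    rcases Nat.lt_or_ge x nl with h | h
    · exact Or.inl h
    · exact Or.inr (by rw [List.getD_eq_default _ _ (by omega)]; exact h15)
  · refine Subgroup.closure_mono ?_
    rintro _ ⟨x, hx, rfl⟩
    obtain ⟨i, hi, rfl⟩ := List.getElem_of_mem hx
    exact ⟨i, (show i < 16 by omega), by simp [List.getElem?_eq_getElem hi]⟩
  · intro l hl
    have h := List.all_eq_true.mp hls' l hl
    simp only [Bool.and_eq_true, List.all_eq_true, decide_eq_true_eq] at h
    refine ⟨h.1, ?_⟩
    have := (hls _ h.2).2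
    rwa [List.map_map] at this
  · intro l hl
    have h := List.all_eq_true.mp hlsub l hl
    match l, h with
    | [x], h =>
      simp only [Bool.and_eq_true, decide_eq_true_eq] at h
      exact ⟨by simpa using h.1, by simpa using mem_level g h.2⟩
    | [], h => simp at h
    | _ :: _ :: _, h => simp at h

end CfsgLib.CosetEnum
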