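import Cfsg.Agent.Lib.CosetEnum.Simple
import Cfsg.Prelude.Def_SporadicB

/-!
Homomorphisms out of a subgroup read off from a correspondence between two actions, and recognition of
non-split double covers.
-/

set_option autoImplicit false

namespace CfsgLib.CosetEnum

/-- A subgroup generated by elements acting on a subset as known permutations maps to their group. -/
theorem exists_hom_of_corr {G M X Y ι : Type*} [Group G] [Group M] (π : G →* Equiv.Perm Y)
    (ρ : M →* Equiv.Perm X) (hρ : Function.Injective ρ) (σ : X → Y) (hσ : Function.Injective σ)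
    (g : ι → G) (u : ι → M) (H : Subgroup G) (hH : H ≤ Subgroup.closure (Set.range g))
    (hcorr : ∀ i k, π (g i) (σ k) = σ (ρ (u i) k)) :
    ∃ f : H →* M, (∀ (w : H) k, π (w : G) (σ k) = σ (ρ (f w) k)) ∧
      ∀ i (hi : g i ∈ H), f ⟨g i, hi⟩ = u i := by
  have huniq : ∀ (w : G) (v v' : M), (∀ k, π w (σ k) = σ (ρ v k)) → (∀ k, π w (σ k) = σ (ρ v' k)) → v = v' :=
    fun w v v' h h' => hρ (Equiv.ext fun k => hσ ((h k).symm.trans (h' k)))
  have hex : ∀ w ∈ H, ∃ v : M, ∀ k, π w (σ k) = σ (ρ v k) := by
    intro w hw
    refine Subgroup.closure_induction (p := fun w _ => ∃ v : M, ∀ k, π w (σ k) = σ (ρ v k))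
      ?_ ⟨1, by simp⟩ ?_ ?_ (hH hw)
    · rintro _ ⟨i, rfl⟩
      exact ⟨u i, hcorr i⟩
    · rintro a b _ _ ⟨v, hv⟩ ⟨v', hv'⟩
      exact ⟨v * v', fun k => by rw [map_mul, map_mul, Equiv.Perm.mul_apply, Equiv.Perm.mul_apply, hv', hv]⟩
    · rintro a _ ⟨v, hv⟩
      refine ⟨v⁻¹, fun k => (π a).injective ?_⟩
      simp [hv]
  refine ⟨MonoidHom.mk' (fun w => (hex w w.2).choose) (fun a b => ?_), fun w k => (hex w w.2).choose_spec k, ?_⟩
  · refine huniq ((a * b : H) : G) _ _ (hex _ (a * b).2).choose_spec fun k => ?_
    rw [Subgroup.coe_mul, map_mul, Equiv.Perm.mul_apply, (hex b b.2).choose_spec, (hex a a.2).choose_spec,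
      map_mul, Equiv.Perm.mul_apply]
  · intro i hi
    exact huniq (g i) _ _ (hex _ hi).choose_spec (hcorr i)

/-- The centre of a simple group that is not of prime order is trivial. -/
theorem center_eq_bot_of_simple {K : Type*} [Group K] [Finite K] [IsSimpleGroup K]
    (h : ¬ (Nat.card K).Prime) : Subgroup.center K = ⊥ := by
  rcases (Subgroup.center K).normal_of_characteristic.eq_bot_or_eq_top with h1 | h1
  · exact h1
  · exfalso
    have hc : ∀ a b : K, a * b = b * a :=
      fun a b => (Subgroup.mem_center_iff.mp (h1 ▸ Subgroup.mem_top a) b).symm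
    letI : CommGroup K := { ‹Group K› with mul_comm := hc }
    exact h IsSimpleGroup.prime_card

/-- A surjection onto a simple group with kernel of order two, from a group without a subgroup of
index two, is a non-split double cover. -/
theorem isNonsplitDoubleCover_of_hom {H K : Type*} [Group H] [Group K] [Finite H] [Finite K] [IsSimpleGroup K]
    (hK : ¬ (Nat.card K).Prime) (f : H →* K) (hf : Function.Surjective f)
    (hcard : Nat.card H = 2 * Nat.card K) (hno : ∀ L : Subgroup H, L.index ≠ 2) :
    Cfsg.IsNonsplitDoubleCover H K := by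
  have hker : Nat.card f.ker = 2 := by
    have h1 := f.ker.index_mul_card
    rw [Subgroup.index_ker, Nat.card_congr (Equiv.subtypeUnivEquiv fun x : K =>
      (MonoidHom.range_eq_top.mpr hf ▸ Subgroup.mem_top x : x ∈ f.range)), hcard, mul_comm 2] at h1
    exact Nat.eq_of_mul_eq_mul_left Nat.card_pos h1
  have hle : f.ker ≤ Subgroup.center H := by
    intro z hz
    rw [Subgroup.mem_center_iff]
    intro w
    by_cases hz1 : z = 1
    · simp [hz1]
    have hmem : w * z * w⁻¹ ∈ f.ker := (inferInstance : f.ker.Normal).conj_mem z hz w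
    obtain ⟨y, _, hy⟩ := (Nat.card_eq_two_iff' (1 : f.ker)).mp hker
    have e1 : (⟨z, hz⟩ : f.ker) = y := hy _ (fun h => hz1 (congrArg Subtype.val h))
    have e2 : (⟨w * z * w⁻¹, hmem⟩ : f.ker) = y := hy _ (fun h => hz1 (conj_eq_one_iff.mp (congrArg Subtype.val h)))
    have e3 : w * z * w⁻¹ = z := congrArg Subtype.val (e2.trans e1.symm)
    exact mul_inv_eq_iff_eq_mul.mp e3
  have hge : Subgroup.center H ≤ f.ker := by
    intro z hz
    have : f z ∈ Subgroup.center K := by
      rw [Subgroup.mem_center_iff]
      intro y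
      obtain ⟨w, rfl⟩ := hf y
      rw [← map_mul, ← map_mul, Subgroup.mem_center_iff.mp hz w]
    rw [center_eq_bot_of_simple hK, Subgroup.mem_bot] at this
    exact this
  have he : Subgroup.center H = f.ker := le_antisymm hge hle
  refine ⟨he ▸ hker, ⟨(QuotientGroup.quotientMulEquivOfEq he).trans (QuotientGroup.quotientKerEquivOfSurjective f hf)⟩, fun L hL => ?_⟩
  refine hno L ?_
  rw [hL.index_eq_card, he, hker]

/-- In a group generated by a set of elements outside a subgroup of index two, membership of a product
of generators is the parity of its length. -/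
theorem prod_mem_iff_even {G : Type*} [Group G] (L : Subgroup G) (hL : L.index = 2) :
    ∀ l : List G, (∀ x ∈ l, x ∉ L) → (l.prod ∈ L ↔ Even l.length) := by
  intro l
  induction l with
  | nil => simp
  | cons x rest ih =>
    intro h
    rw [List.prod_cons, Subgroup.mul_mem_iff_of_index_two hL, ih fun y hy => h y (List.mem_cons_of_mem _ hy),
      List.length_cons, Nat.even_add_one]
    simp [h x (by simp)]

theorem scan_append (T : List Tr) : ∀ (a b : List ℕ) (k : ℕ), scan T (a ++ b) k = scan T b (scan T a k) := by
  intro a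
  induction a with
  | nil => intro b k; rfl
  | cons x r ih => intro b k; rw [List.cons_append, scan_cons, scan_cons, ih]

/-- Apply a column repeatedly. -/
noncomputable def iterGet (c : Tr) (m : ℕ) : ℕ → ℕ :=
  Nat.rec (motive := fun _ => ℕ → ℕ) (fun k => k) (fun _ ih k => strict (c.get 20 k) fun k' => ih k') m

theorem iterGet_succ (c : Tr) (m k : ℕ) : iterGet c (m + 1) k = iterGet c m (c.get 20 k) := by
  show strict (c.get 20 k) (fun k' => iterGet c m k') = _
  rw [strict_eq]

/-- A column that agrees with a word gives the powers of that word. -/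
theorem scan_replicate (T : List Tr) (l : List ℕ) (c : Tr) (n : ℕ)
    (h : ∀ k < n, (Nat.beq (scan T l k) (c.get 20 k) && Nat.blt (c.get 20 k) n) = true) :
    ∀ m k, k < n → scan T (List.replicate m l).flatten k = iterGet c m k := by
  intro m
  induction m with
  | zero => intro k _; rfl
  | succ m ih =>
    intro k hk
    have h1 := h k hk
    simp only [Bool.and_eq_true] at h1
    rw [List.replicate_succ, List.flatten_cons, scan_append, iterGet_succ, Nat.eq_of_beq_eq_true h1.1,
      ih _ (Nat.le_of_ble_eq_true h1.2)]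

end CfsgLib.CosetEnum
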