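import Cfsg.Agent.Lib.CosetEnum.Orbit

/-!
Simplicity from a primitive faithful action, a prime dividing the degree exactly once in the order,
and a generation certificate by conjugates of an element of that order.
-/

set_option autoImplicit false

namespace CfsgLib.CosetEnum

variable {G : Type*} [Group G]

/-- If the base lower bound for the image equals the order, the action is faithful. -/
theorem injective_of_card_range {M : Type*} [Group M] [Finite G] (π : G →* M) (h : Nat.card G ≤ Nat.card π.range) :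
    Function.Injective π := by
  have hb := (Nat.bijective_iff_surjective_and_card π.rangeRestrict).mpr
    ⟨π.rangeRestrict_surjective,
      le_antisymm h (Nat.card_le_card_of_surjective _ π.rangeRestrict_surjective)⟩
  intro a b hab
  exact hb.1 (Subtype.ext hab)

/-- A group with a maximal core-free subgroup of index divisible by a prime `p` is simple if an element
of order `p` in the centre of a Sylow `p`-subgroup normally generates and that centre has order `p`. -/
theorem isSimple_of_maximal [Finite G] [Nontrivial G] (H : Subgroup G)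
    (hmax : ∀ M : Subgroup G, H ≤ M → M = H ∨ M = ⊤)
    (hcore : ∀ N : Subgroup G, N.Normal → N ≤ H → N = ⊥)
    (p : ℕ) [Fact p.Prime] (hp : p ∣ H.index) (hp2 : ¬ p ^ 2 ∣ Nat.card G)
    (w : G) (hw : orderOf w = p) (hgen : ∀ N : Subgroup G, N.Normal → w ∈ N → N = ⊤) : IsSimpleGroup G := by
  refine { eq_bot_or_eq_top_of_normal := fun N hN => ?_ }
  by_cases hb : N ≤ H
  · exact Or.inl (hcore N hN hb)
  right
  have hM : H ⊔ N = ⊤ := (hmax _ le_sup_left).resolve_left fun h => hb (h ▸ le_sup_right)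
  have hidx : H.index ∣ Nat.card N := by
    have h := Subgroup.relIndex_sup_left H N
    rw [sup_comm, hM, Subgroup.relIndex_top_right] at h
    have h1 : Nat.card H * H.index ∣ Nat.card H * Nat.card N := by
      rw [Subgroup.card_mul_index, ← Subgroup.index_mul_card N, h]
      exact Nat.mul_dvd_mul_right (Subgroup.relIndex_dvd_card N H) _
    exact Nat.dvd_of_mul_dvd_mul_left Nat.card_pos h1
  have hpN : p ∣ Nat.card N := hp.trans hidx
  obtain ⟨P, hwP⟩ := IsPGroup.exists_le_sylow (p := p) (P := Subgroup.zpowers w)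
    (IsPGroup.of_card (n := 1) (by rw [pow_one, Nat.card_zpowers, hw]))
  obtain ⟨x, hx⟩ := exists_prime_orderOf_dvd_card' (G := N) p hpN
  have hP : Nat.card P = p := by
    obtain ⟨k, hk⟩ := IsPGroup.iff_card.mp P.isPGroup'
    have h1 : p ∣ Nat.card P := by
      have := Subgroup.card_dvd_of_le hwP
      rwa [Nat.card_zpowers, hw] at this
    rcases k with _ | _ | k
    · rw [hk, pow_zero, Nat.dvd_one] at h1
      exact absurd h1 (Fact.out : p.Prime).one_lt.ne'
    · rw [hk, pow_one]
    · exact absurd ((pow_dvd_pow p (by omega : 2 ≤ k + 1 + 1)).trans (hk ▸ P.toSubgroup.card_subgroup_dvd_card)) hp2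
  obtain ⟨Q, hxQ⟩ := IsPGroup.exists_le_sylow (p := p) (P := Subgroup.zpowers (x : G))
    (IsPGroup.of_card (n := 1) (by rw [pow_one, Nat.card_zpowers, Subgroup.orderOf_coe, hx]))
  have hQ : Nat.card Q = p := by rw [Q.card_eq_multiplicity, ← P.card_eq_multiplicity, hP]
  have hQN : (Q : Subgroup G) ≤ N := by
    refine (Subgroup.eq_of_le_of_card_ge hxQ ?_).symm.le.trans (Subgroup.zpowers_le.mpr x.2)
    rw [hQ, Nat.card_zpowers, Subgroup.orderOf_coe, hx]
  obtain ⟨c, hc⟩ := MulAction.exists_smul_eq G Q P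
  refine hgen N hN (?_ : w ∈ N)
  have hwP' : w ∈ (P : Subgroup G) := hwP (Subgroup.mem_zpowers w)
  rw [← hc, Sylow.coe_subgroup_smul] at hwP'
  obtain ⟨y, hy, rfl⟩ := hwP'
  exact hN.conj_mem y (hQN hy) c

section Generation

variable {n : ℕ} (T : List Tr) (ip : ℕ) (hip : ipOK ip = true) (hrow : ∀ k < n, rowOK T ip n k = true)
  (π : G →* Equiv.Perm (Fin n)) (g : ℕ → G) (hinv : ∀ x < 16, g (linv ip x) = (g x)⁻¹)
  (hπ : ∀ x < 16, π (g x) = permOf T ip n hip hrow x)

include hinv hπ in
theorem prod_eq_of_scan_eq (hinj : Function.Injective π) (a b : List ℕ) (ha : ∀ x ∈ a, x < 16) (hb : ∀ x ∈ b, x < 16)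
    (h : ∀ k < n, scan T a k = scan T b k) : (a.map g).prod = (b.map g).prod := by
  have key : ∀ l : List ℕ, (∀ x ∈ l, x < 16) →
      π (((l.map g).prod)⁻¹) = ((invWord ip l).map (permOf T ip n hip hrow)).prod := by
    intro l hl
    rw [← prod_invWord hinv l hl, map_list_prod, List.map_map]
    congr 1
    exact List.map_congr_left fun x hx => hπ x (invWord_lt l x hx)
  refine inv_injective (hinj ?_)
  rw [key a ha, key b hb]
  refine Equiv.ext fun k => Fin.ext ?_
  rw [prod_invWord_apply T ip n hip hrow a ha, prod_invWord_apply T ip n hip hrow b hb]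
  exact h k k.2

include hinv hπ in
/-- A word has prime order. -/
theorem orderOf_word (hinj : Function.Injective π) (p : ℕ) [Fact p.Prime] (lw : List ℕ)
    (hlw : ∀ x ∈ lw, x < 16) (k₀ : ℕ) (hk₀ : k₀ < n) (hne : Nat.beq (scan T lw k₀) k₀ = false)
    (hpow : ∀ k < n, fixesAll T k [(List.replicate p lw).flatten] = true) : orderOf (lw.map g).prod = p := by
  have hl : ∀ x ∈ (List.replicate p lw).flatten, x < 16 := by
    intro x hx
    rw [List.mem_flatten] at hx
    obtain ⟨l, hl, hx⟩ := hx
    exact hlw x ((List.eq_of_mem_replicate hl) ▸ hx)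
  refine orderOf_eq_prime ?_ ?_
  · have heq := prod_eq_of_scan_eq T ip hip hrow π g hinv hπ hinj _ [] hl (by simp) fun k hk => by
      rw [scan_nil]; exact fixesAll_spec _ _ _ (hpow k hk) _ (by simp)
    rw [List.map_flatten, List.map_replicate, List.prod_flatten, List.map_replicate, List.prod_replicate] at heq
    simpa using heq
  · intro h1
    have h2 : ((invWord ip lw).map g).prod = 1 := by rw [prod_invWord hinv lw hlw, h1, inv_one]
    have h3 : ((invWord ip lw).map (permOf T ip n hip hrow)).prod = 1 := by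
      rw [← map_one π, ← h2, map_list_prod, List.map_map]
      congr 1
      exact List.map_congr_left fun x hx => (hπ x (invWord_lt lw x hx)).symm
    have h4 := prod_invWord_apply T ip n hip hrow lw hlw ⟨k₀, hk₀⟩
    rw [h3, Equiv.Perm.one_apply] at h4
    simp [← h4] at hne

end Generation

/-- A normal subgroup containing `lw` is everything when adding `lw` to the relators collapses the group. -/
theorem normal_eq_top_of_collapse (g : ℕ → G) (lw : List ℕ) (N : Subgroup G) [N.Normal]
    (hmem : (lw.map g).prod ∈ N)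
    (hcol : ((lw.map fun x => QuotientGroup.mk' N (g x)).prod = 1) → CoversCosets (⊤ : Subgroup (G ⧸ N)) ⊥ 1) :
    N = ⊤ := by
  have h1 : (lw.map fun x => QuotientGroup.mk' N (g x)).prod = 1 := by
    rw [show (lw.map fun x => QuotientGroup.mk' N (g x)) = (lw.map g).map (QuotientGroup.mk' N) by
      rw [List.map_map]; rfl, ← map_list_prod]
    exact (QuotientGroup.eq_one_iff _).mpr hmem
  obtain ⟨hfin, hle⟩ := (hcol h1).card_le
  rw [Subgroup.card_bot, mul_one, Subgroup.card_top] at hle
  have hfin' : Finite (G ⧸ N) := Finite.of_equiv _ Subgroup.topEquiv.toEquiv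
  exact Subgroup.index_eq_one.mp (le_antisymm hle Nat.card_pos)

/-- Transport of the letter hypotheses along a homomorphism. -/
theorem letters_map {M : Type*} [Group M] (φ : G →* M) {g : ℕ → G} {ip : ℕ} (ls : List (List ℕ)) (h15 : g 15 = 1)
    (hinv : ∀ x < 16, g (linv ip x) = (g x)⁻¹)
    (hls : ∀ l ∈ ls, (∀ x ∈ l, x < 16) ∧ (l.map g).prod = 1) (hs : Function.Surjective φ)
    (htop : ⊤ ≤ Subgroup.closure (g '' Set.Iio 16)) :
    φ (g 15) = 1 ∧ (∀ x < 16, φ (g (linv ip x)) = (φ (g x))⁻¹) ∧
      (∀ l ∈ ls, (∀ x ∈ l, x < 16) ∧ (l.map fun x => φ (g x)).prod = 1) ∧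
      ⊤ ≤ Subgroup.closure ((fun x => φ (g x)) '' Set.Iio 16) := by
  refine ⟨by rw [h15, map_one], fun x hx => by rw [hinv x hx, map_inv], fun l hl => ⟨(hls l hl).1, ?_⟩, ?_⟩
  · rw [show (l.map fun x => φ (g x)) = (l.map g).map φ by rw [List.map_map]; rfl, ← map_list_prod, (hls l hl).2,
      map_one]
  · have h := Subgroup.map_mono (f := φ) htop
    rw [Subgroup.map_top_of_surjective φ hs, MonoidHom.map_closure, Set.image_image] at h
    exact h

/-- Matching upper and lower bounds: exact orders, the coset count and faithfulness. -/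
theorem exact_of_bounds {G : Type} [Group G] {n : ℕ} (π : G →* Equiv.Perm (Fin n)) (hn : 0 < n) (H : Subgroup G)
    (T : List Tr) (hT : Realised π H T) (hfix : ∀ h ∈ H, π h ⟨0, hn⟩ = ⟨0, hn⟩)
    (htr : ∀ k : Fin n, ∃ z : G, π z ⟨0, hn⟩ = k) (h m : ℕ) (hm : m = n * h)
    (hlow : ∀ (M : Type) (_ : Group M) (π' : M →* Equiv.Perm (Fin n)) (K : Subgroup M),
      Finite K → Realised π' K T → h ≤ Nat.card K)
    (hup : Finite G ∧ Nat.card G ≤ m) :
    Finite G ∧ Nat.card G = m ∧ Nat.card H = h ∧ Function.Injective π ∧ CoversCosets ⊤ H n := by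
  obtain ⟨hfin, hle⟩ := hup
  subst hm
  have h1 := hlow G inferInstance π H inferInstance hT
  have h2 := card_ge_of_transitive π hn H hfix htr
  have hG : Nat.card G = n * h := le_antisymm hle ((Nat.mul_le_mul_left n h1).trans h2)
  have hH : Nat.card H = h := le_antisymm (Nat.le_of_mul_le_mul_left (h2.trans hle) hn) h1
  refine ⟨hfin, hG, hH, ?_, covers_of_card π hn H hfix htr (by rw [hG, hH])⟩
  refine injective_of_card_range π (hG.le.trans ?_)
  have h3 := hlow _ inferInstance π.range.subtype (H.map π.rangeRestrict) inferInstance fun j hj => by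
    obtain ⟨z, hz, hzk⟩ := hT j hj
    exact ⟨π.rangeRestrict z, Subgroup.mem_map_of_mem _ hz, hzk⟩
  refine le_trans (Nat.mul_le_mul_left n h3) (card_ge_of_transitive π.range.subtype hn _ ?_ fun k => ?_)
  · rintro _ ⟨w, hw, rfl⟩
    exact hfix w hw
  · obtain ⟨z, hz⟩ := htr k
    exact ⟨π.rangeRestrict z, hz⟩

/-- Point stabiliser data give maximality and a trivial core. -/
theorem maximal_of_orbits {n : ℕ} (π : G →* Equiv.Perm (Fin n)) (hn : 0 < n) (H : Subgroup G)
    (hc : CoversCosets ⊤ H n) (hfix : ∀ h ∈ H, π h ⟨0, hn⟩ = ⟨0, hn⟩)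
    (htr : ∀ k : Fin n, ∃ z : G, π z ⟨0, hn⟩ = k) (hinj : Function.Injective π)
    (T : List Tr) (hT : Realised π H T) (hgen : Generated π H T) (lab par root : Tr)
    (hrows : ∀ k < n, orbitRowOK T lab par root n k = true) (sizes : List ℕ)
    (h0 : Nat.beq (lab.get 20 0) 0 = true)
    (hlab : allFrom (fun k => Nat.blt (lab.get 20 k) sizes.length) n 0 = true)
    (hclasses : classesOK lab root n sizes = true) (hblocks : noBlocks sizes n = true) :
    (∀ M : Subgroup G, H ≤ M → M = H ∨ M = ⊤) ∧ ∀ N : Subgroup G, N.Normal → N ≤ H → N = ⊥ := by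
  have hbij := cosetPt_bijective hn π H hc hfix htr
  refine ⟨fun M hM => ?_, fun N hN hle => ?_⟩
  · refine eq_or_of_le π ⊤ H M hM le_top ⟨0, hn⟩ hfix (fun z _ hz => ?_) n ?_ T hT hgen lab par root hrows sizes
      (Nat.eq_of_beq_eq_true h0) (fun z _ => ?_) hclasses hblocks
    · have h1 : ((z : G) : G ⧸ H) = ((1 : G) : G ⧸ H) :=
        hbij.1 (by rw [cosetPt_mk, cosetPt_mk, hz, map_one, Equiv.Perm.one_apply])
      have h2 := QuotientGroup.eq.mp h1.symm
      simpa using h2
    · rw [Subgroup.relIndex_top_right]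
      exact index_eq_of_covers hn π H hc hfix htr
    · exact Nat.le_of_ble_eq_true (allFrom_spec _ _ _ hlab _ (Nat.zero_le _) (by simp))
  · refine (Subgroup.eq_bot_iff_forall N).mpr fun z hz => hinj (Equiv.ext fun k => ?_)
    obtain ⟨y, rfl⟩ := htr k
    have h1 := hfix _ (hle (hN.conj_mem z hz y⁻¹))
    rw [inv_inv, map_mul, map_mul, Equiv.Perm.mul_apply, Equiv.Perm.mul_apply, map_inv, Equiv.Perm.inv_def,
      Equiv.symm_apply_eq] at h1
    rw [map_one, Equiv.Perm.one_apply]
    exact h1

end CfsgLib.CosetEnum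

namespace CfsgLib.CosetEnum

/-- When the product of an index bound and an order bound is the order, the index is exact. -/
theorem index_eq_of_bounds {G : Type*} [Group G] [Finite G] {H : Subgroup G} {n B : ℕ} (hn : 0 < n)
    (hc : CoversCosets ⊤ H n) (hH : Finite H ∧ Nat.card H ≤ B) (hG : Nat.card G = n * B) : H.index = n := by
  have h1 : Nat.card (⊤ : Subgroup G) ≤ n * Nat.card H := (hc.card_le).2
  rw [Subgroup.card_top, hG] at h1
  have h2 : Nat.card H = B := le_antisymm hH.2 (Nat.le_of_mul_le_mul_left h1 hn)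
  have h3 := Subgroup.index_mul_card H
  rw [hG, h2] at h3
  exact Nat.eq_of_mul_eq_mul_right (by rw [← h2]; exact Nat.card_pos) h3

end CfsgLib.CosetEnum

namespace CfsgLib.CosetEnum

/-- A normal subgroup supplementing `K` has order divisible by the index of `K`. -/
theorem index_dvd_card_of_sup_eq_top {G : Type*} [Group G] [Finite G] (K N : Subgroup G) [N.Normal] (h : K ⊔ N = ⊤) :
    K.index ∣ Nat.card N := by
  have h0 := Subgroup.relIndex_sup_left K N
  rw [sup_comm, h, Subgroup.relIndex_top_right] at h0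
  have h1 : Nat.card K * K.index ∣ Nat.card K * Nat.card N := by
    rw [Subgroup.card_mul_index, ← Subgroup.index_mul_card N, h0]
    exact Nat.mul_dvd_mul_right (Subgroup.relIndex_dvd_card N K) _
  exact Nat.dvd_of_mul_dvd_mul_left Nat.card_pos h1

/-- A normal subgroup of order divisible by a prime occurring once in the order contains every element of that order. -/
theorem mem_of_prime_dvd {G : Type*} [Group G] [Finite G] (N : Subgroup G) [N.Normal] (p : ℕ) [Fact p.Prime]
    (hpN : p ∣ Nat.card N) (hp2 : ¬ p ^ 2 ∣ Nat.card G) (w : G) (hw : orderOf w = p) : w ∈ N := by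
  have hidx : ¬ p ∣ N.index := fun h =>
    hp2 (by rw [pow_two, ← Subgroup.index_mul_card N]; exact Nat.mul_dvd_mul h hpN)
  by_contra hmem
  refine hidx ?_
  have h1 : orderOf (QuotientGroup.mk' N w) ∣ p := hw ▸ orderOf_map_dvd _ w
  rcases (Fact.out : p.Prime).eq_one_or_self_of_dvd _ h1 with h | h
  · exact absurd ((QuotientGroup.eq_one_iff w).mp (orderOf_eq_one_iff.mp h)) hmem
  · have h3 : orderOf (QuotientGroup.mk' N w) ∣ Nat.card (G ⧸ N) := orderOf_dvd_natCard _
    rw [h] at h3
    exact h3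

/-- Simplicity through a primitive suborbit: the case of a regular normal subgroup is excluded by Sylow. -/
theorem isSimple_of_suborbit {G : Type*} [Group G] [Finite G] [Nontrivial G] {n : ℕ}
    (π : G →* Equiv.Perm (Fin n)) (hn : 0 < n) (H : Subgroup G)
    (hmax : ∀ M : Subgroup G, H ≤ M → M = H ∨ M = ⊤)
    (hcore : ∀ N : Subgroup G, N.Normal → N ≤ H → N = ⊥) (hindex : H.index = n)
    (hfix : ∀ h ∈ H, π h ⟨0, hn⟩ = ⟨0, hn⟩) (hstab : ∀ z, π z ⟨0, hn⟩ = ⟨0, hn⟩ → z ∈ H)
    (b : Fin n) (z₀ : G) (hz₀ : π z₀ ⟨0, hn⟩ = b) (hb : (b : ℕ) ≠ 0)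
    (K : Subgroup G) (hKH : K ≤ H) (hKmax : ∀ M, K ≤ M → M ≤ H → M = K ∨ M = H) (hKb : ∀ k ∈ K, π k b = b)
    (m : ℕ) (hKidx : K.relIndex H = m) (p : ℕ) [Fact p.Prime] (hp : p ∣ m) (hp2 : ¬ p ^ 2 ∣ Nat.card G)
    (w : G) (hw : orderOf w = p) (hgen : ∀ N : Subgroup G, N.Normal → w ∈ N → N = ⊤)
    (q k r : ℕ) [Fact q.Prime] (hnqr : n = q ^ k * r) (hr : 1 < r) (hqr : ¬ q ∣ r) (hk : 0 < k)
    (hsyl : ∀ d, d ∣ r → d % q = 1 → d = 1) : IsSimpleGroup G := by
  refine { eq_bot_or_eq_top_of_normal := fun N hN => ?_ }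
  by_cases hb' : N ≤ H
  · exact Or.inl (hcore N hN hb')
  right
  have hsup : ∀ N : Subgroup G, ¬ N ≤ H → H ⊔ N = ⊤ := fun N hN' =>
    (hmax _ le_sup_left).resolve_left fun h => hN' (h ▸ le_sup_right)
  have hHN := hsup N hb'
  set D := N ⊓ H with hD
  have hMle : K ⊔ D ≤ H := sup_le hKH inf_le_right
  rcases hKmax (K ⊔ D) le_sup_left hMle with hM | hM
  · exfalso
    have hDK : D ≤ K := hM ▸ le_sup_right
    have hzD : ∀ d ∈ D, z₀⁻¹ * d * z₀ ∈ D := by
      intro d hd
      refine Subgroup.mem_inf.mpr ⟨?_, hstab _ ?_⟩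
      · have := hN.conj_mem d (Subgroup.mem_inf.mp hd).1 z₀⁻¹
        rwa [inv_inv] at this
      · rw [map_mul, map_mul, Equiv.Perm.mul_apply, Equiv.Perm.mul_apply, hz₀, hKb d (hDK hd), map_inv,
          Equiv.Perm.inv_def, Equiv.symm_apply_eq, hz₀]
    have hz : z₀ ∈ Subgroup.normalizer (D : Set G) := by
      rw [← Subgroup.inv_mem_iff]
      have hmap : D.map (MulAut.conj z₀⁻¹).toMonoidHom = D := by
        refine Subgroup.eq_of_le_of_card_ge ?_ ?_
        · rintro _ ⟨d, hd, rfl⟩
          simpa using hzD d hd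
        · exact (Subgroup.card_map_of_injective (MulEquiv.injective _)).ge
      rw [Subgroup.mem_normalizer_iff]
      intro d
      constructor
      · intro hd
        simpa using hzD d hd
      · intro hd
        have : z₀⁻¹ * d * z₀⁻¹⁻¹ ∈ D.map (MulAut.conj z₀⁻¹).toMonoidHom := by rw [hmap]; exact hd
        obtain ⟨e, he, hee⟩ := this
        have : e = d := by simpa using hee
        exact this ▸ he
    have hHn : H ≤ Subgroup.normalizer (D : Set G) := by
      intro h hh
      rw [Subgroup.mem_normalizer_iff]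
      intro d
      refine ⟨fun hd => Subgroup.mem_inf.mpr ⟨hN.conj_mem d (Subgroup.mem_inf.mp hd).1 h,
        H.mul_mem (H.mul_mem hh (Subgroup.mem_inf.mp hd).2) (H.inv_mem hh)⟩, fun hd => ?_⟩
      have h1 := hN.conj_mem _ (Subgroup.mem_inf.mp hd).1 h⁻¹
      have h2 := H.mul_mem (H.mul_mem (H.inv_mem hh) (Subgroup.mem_inf.mp hd).2) hh
      refine Subgroup.mem_inf.mpr ⟨?_, ?_⟩
      · simpa [mul_assoc] using h1
      · simpa [mul_assoc] using h2
    rcases hmax _ hHn with h | h
    · rw [h] at hz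
      exact hb (by rw [← hz₀, hfix _ hz])
    · have hDn : D.Normal := Subgroup.normalizer_eq_top_iff.mp h
      have hDbot := hcore D hDn inf_le_right
      have hcardN : Nat.card N = n := by
        have h0 := Subgroup.relIndex_sup_left H N
        rw [sup_comm, hHN, Subgroup.relIndex_top_right] at h0
        have h1 : N.relIndex H = Nat.card H := by
          rw [← Subgroup.inf_relIndex_right, ← hD, hDbot, Subgroup.relIndex_bot_left]
        have h2 := Subgroup.index_mul_card N
        rw [h0, h1, ← Subgroup.index_mul_card H, mul_comm H.index, hindex] at h2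
        exact Nat.eq_of_mul_eq_mul_left Nat.card_pos h2
      obtain ⟨Q⟩ := (inferInstance : Nonempty (Sylow q N))
      have hQcard : Nat.card Q = q ^ k := by
        rw [Q.card_eq_multiplicity, hcardN, hnqr, Nat.factorization_mul (pow_ne_zero _ (Fact.out : q.Prime).ne_zero)
          (by omega), Finsupp.add_apply, (Fact.out : q.Prime).factorization_pow, Finsupp.single_eq_same,
          Nat.factorization_eq_zero_of_not_dvd hqr, add_zero]
      have hone : Nat.card (Sylow q N) = 1 := by
        refine hsyl _ ?_ ?_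
        · have hd := Q.card_dvd_index
          have hi : (Q : Subgroup N).index = r := by
            have := (Q : Subgroup N).index_mul_card
            rw [hQcard, hcardN, hnqr, mul_comm (q ^ k)] at this
            exact Nat.eq_of_mul_eq_mul_right (pow_pos (Fact.out : q.Prime).pos _) this
          rwa [hi] at hd
        · have := card_sylow_modEq_one q N
          rwa [Nat.ModEq, Nat.mod_eq_of_lt (Fact.out : q.Prime).one_lt] at this
      haveI : Subsingleton (Sylow q N) := (Nat.card_eq_one_iff_unique.mp hone).1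
      haveI : (Q : Subgroup N).Characteristic := inferInstance
      have hQn : ((Q : Subgroup N).map N.subtype).Normal := inferInstance
      have hQc : Nat.card ((Q : Subgroup N).map N.subtype) = q ^ k := by
        rw [Subgroup.card_map_of_injective N.subtype_injective, hQcard]
      by_cases hQH : (Q : Subgroup N).map N.subtype ≤ H
      · have := hcore _ hQn hQH
        rw [this, Subgroup.card_bot] at hQc
        exact absurd hQc (Nat.one_lt_pow hk.ne' (Fact.out : q.Prime).one_lt).ne
      · have hd := index_dvd_card_of_sup_eq_top H _ (hsup _ hQH)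
        rw [hindex, hQc, hnqr] at hd
        have hpos : 0 < q ^ k := pow_pos (Fact.out : q.Prime).pos _
        have := Nat.le_of_dvd hpos hd
        have : q ^ k * 2 ≤ q ^ k * r := Nat.mul_le_mul_left _ hr
        omega
  · refine hgen N hN (mem_of_prime_dvd N p ?_ hp2 w hw)
    have hsup' : K.subgroupOf H ⊔ N.subgroupOf H = ⊤ := by
      rw [← Subgroup.inf_subgroupOf_right N H, ← hD, ← Subgroup.subgroupOf_sup hKH inf_le_right, hM, Subgroup.subgroupOf_self]
    have h1 := index_dvd_card_of_sup_eq_top (K.subgroupOf H) (N.subgroupOf H) hsup'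
    change K.relIndex H ∣ _ at h1
    rw [hKidx] at h1
    exact hp.trans (h1.trans (Subgroup.card_dvd_of_injective ((H.subtype.comp (N.subgroupOf H).subtype).codRestrict N fun x => x.2)
      (fun a b hab => Subtype.ext (Subtype.ext (congrArg Subtype.val hab : _)))))

/-- A bound equal to an image order makes the action faithful on a subgroup. -/
theorem injOn_of_bound {G : Type} [Group G] {n : ℕ} (π : G →* Equiv.Perm (Fin n)) (K : Subgroup G) (T : List Tr)
    (hT : Realised π K T) (h : ℕ) (hup : Finite K ∧ Nat.card K ≤ h)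
    (hlow : ∀ (M : Type) (_ : Group M) (π' : M →* Equiv.Perm (Fin n)) (L : Subgroup M),
      Finite L → Realised π' L T → h ≤ Nat.card L) : ∀ z ∈ K, π z = 1 → z = 1 := by
  obtain ⟨hfin, hle⟩ := hup
  have h1 := hlow _ inferInstance (MonoidHom.id _) (K.map π) inferInstance fun j hj => by
    obtain ⟨z, hz, hzk⟩ := hT j hj
    exact ⟨π z, Subgroup.mem_map_of_mem π hz, hzk⟩
  have hbij : Function.Bijective (π.subgroupMap K) :=
    (Nat.bijective_iff_surjective_and_card _).mpr ⟨π.subgroupMap_surjective K,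
      le_antisymm (hle.trans h1) (Nat.card_le_card_of_surjective _ (π.subgroupMap_surjective K))⟩
  intro z hz h0
  have : (⟨z, hz⟩ : K) = 1 := hbij.1 (by rw [map_one]; exact Subtype.ext (by simpa using h0))
  simpa using congrArg Subtype.val this

end CfsgLib.CosetEnum

namespace CfsgLib.CosetEnum

/-- The subgroup of `H` generated by its elements acting as the columns of `T`. -/
def ColSub {G : Type*} [Group G] {n : ℕ} (π : G →* Equiv.Perm (Fin n)) (H : Subgroup G) (T : List Tr) : Subgroup G :=
  Subgroup.closure {z | z ∈ H ∧ ∃ j < T.length, ∀ k : Fin n, ((π z k : Fin n) : ℕ) = act T j k}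

theorem colSub_spec {G : Type*} [Group G] {n : ℕ} (π : G →* Equiv.Perm (Fin n)) (H : Subgroup G) (T : List Tr)
    (hT : Realised π H T) :
    ColSub π H T ≤ H ∧ Realised π (ColSub π H T) T ∧ Generated π (ColSub π H T) T := by
  refine ⟨(Subgroup.closure_le _).mpr fun z hz => hz.1, fun j hj => ?_, ?_⟩
  · obtain ⟨z, hz, hzk⟩ := hT j hj
    exact ⟨z, Subgroup.subset_closure ⟨hz, j, hj, hzk⟩, hzk⟩
  · exact Subgroup.closure_mono fun z hz => hz.2

theorem colSub_fix {G : Type*} [Group G] {n : ℕ} (π : G →* Equiv.Perm (Fin n)) (H : Subgroup G) (T : List Tr)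
    (b : Fin n) (h : allFrom (fun j => Nat.beq (act T j b) b) T.length 0 = true) :
    ∀ z ∈ ColSub π H T, π z b = b := by
  intro z hz
  induction hz using Subgroup.closure_induction with
  | mem y hy =>
    obtain ⟨-, j, hj, hjk⟩ := hy
    exact Fin.ext ((hjk b).trans (Nat.eq_of_beq_eq_true (allFrom_spec _ _ _ h j (Nat.zero_le _) (by simpa using hj))))
  | one => simp
  | mul x y _ _ ihx ihy => rw [map_mul, Equiv.Perm.mul_apply, ihy, ihx]
  | inv x _ ih => rw [map_inv, Equiv.Perm.inv_def, Equiv.symm_apply_eq]; exact ih.symm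

/-- The stabiliser of `b` inside `H` is a fixing subgroup of large enough order. -/
theorem stab_of_orbit {G : Type*} [Group G] [Finite G] {n : ℕ} (π : G →* Equiv.Perm (Fin n)) (H K : Subgroup G)
    (hKH : K ≤ H) (b : Fin n) (hKb : ∀ z ∈ K, π z b = b) (m c : ℕ) (hm : 0 < m)
    (horb : {k | ∃ w ∈ H, π w b = k}.ncard = m) (hH : Nat.card H = m * c) (hK : c ≤ Nat.card K) :
    K.relIndex H = m ∧ ∀ z ∈ H, π z b = b → z ∈ K := by
  classical
  let S : Subgroup G :=
    { carrier := {z | z ∈ H ∧ π z b = b}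
      one_mem' := ⟨H.one_mem, by simp⟩
      mul_mem' := fun {x y} hx hy => ⟨H.mul_mem hx.1 hy.1, by rw [map_mul, Equiv.Perm.mul_apply, hy.2, hx.2]⟩
      inv_mem' := fun {x} hx => ⟨H.inv_mem hx.1, by rw [map_inv, Equiv.Perm.inv_def, Equiv.symm_apply_eq, hx.2]⟩ }
  have hKS : K ≤ S := fun z hz => ⟨hKH hz, hKb z hz⟩
  have hSH : S ≤ H := fun z hz => hz.1
  have horb' : ∀ k : {k | ∃ w ∈ H, π w b = k}, ∃ w : H, π (w : G) b = k := fun ⟨k, w, hw, hwk⟩ => ⟨⟨w, hw⟩, hwk⟩
  choose z hz using horb'
  have hinj : Function.Injective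
      (fun p : {k | ∃ w ∈ H, π w b = k} × S => z p.1 * (⟨p.2, hSH p.2.2⟩ : H)) := by
    rintro ⟨i, u⟩ ⟨j, v⟩ h
    have h2 : π ((z i : G) * (u : G)) b = π ((z j : G) * (v : G)) b := congrArg (fun y : H => π (y : G) b) h
    rw [map_mul, map_mul, Equiv.Perm.mul_apply, Equiv.Perm.mul_apply, u.2.2, v.2.2, hz, hz] at h2
    obtain rfl : i = j := Subtype.ext h2
    simp only [mul_right_inj] at h
    exact Prod.ext rfl (Subtype.ext (congrArg Subtype.val h : _))
  have hle := Nat.card_le_card_of_injective _ hinj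
  rw [Nat.card_prod, Nat.card_coe_set_eq, horb, hH] at hle
  have hS : Nat.card S ≤ c := Nat.le_of_mul_le_mul_left hle hm
  have hKS' : K = S := Subgroup.eq_of_le_of_card_ge hKS (hS.trans hK)
  have hKc : Nat.card K = c := le_antisymm (by rw [hKS']; exact hS) hK
  have hpos : 0 < c := hKc ▸ Nat.card_pos
  refine ⟨?_, fun w hw hwb => by rw [hKS']; exact ⟨hw, hwb⟩⟩
  have h := (K.subgroupOf H).index_mul_card
  rw [hH, Nat.card_congr (Subgroup.subgroupOfEquivOfLe hKH).toEquiv, hKc] at h
  exact Nat.eq_of_mul_eq_mul_right hpos h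

end CfsgLib.CosetEnum
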