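import Cfsg.Agent.Lib.CosetEnum.Rigid

/-!
Exact stabiliser chains from base certificates, and the words of paths in their trees.
-/

set_option autoImplicit false

namespace CfsgLib.CosetEnum.Rigid

open CfsgLib.CosetEnum

/-- Orbit membership read from a certificate. -/
noncomputable def orbMem (P pos : Tr) (N k : ℕ) : Bool :=
  strict (pos.get 20 k) fun i => Nat.blt i N && Nat.beq (P.get 20 i) k

/-- The word of the path to entry `i` in a tree. -/
noncomputable def pathTo (par : Tr) : ℕ → ℕ → List ℕ :=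
  fun fuel => Nat.rec (motive := fun _ => ℕ → List ℕ) (fun _ => [])
    (fun _ ih i => Bool.rec (motive := fun _ => List ℕ)
      (strict (par.get 24 i) fun d => ih (d >>> 4) ++ [d &&& 15]) [] (Nat.beq i 0)) fuel

/-- The level read from a certificate. -/
noncomputable def lvlOf (T : List Tr) (P par pos : Tr) (b N : ℕ) : Lvl where
  T := T
  b := b
  inOrb := orbMem P pos N
  path := fun k => pathTo par 64 (pos.get 20 k)

variable {G : Type} [Group G] [Finite G] {n : ℕ} {π : G →* Equiv.Perm (Fin n)}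

/-- One exact level: a lower bound for the stabiliser, and the orbit when the bound is sharp. -/
theorem orbit_step {K : Subgroup G} {T : List Tr} (hT : Realised π K T)
    (T' : List Tr) (ws : List (List ℕ)) (P par pos : Tr) (b N : ℕ) (hb : b < n) (hP : Nat.beq (P.get 20 0) b = true)
    (hstep : ∀ i < N, stepOK T P par pos T.length i = true)
    (hws : (ws.all fun l => l.all fun x => decide (x < T.length)) = true)
    (hlen : ws.length = T'.length) (hcomp : ∀ k < n, compOK T T' ws k = true)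
    (hfix : fixesAll T b ws = true) :
    Realised π (K ⊓ fixer π b) T' ∧ N * Nat.card (K ⊓ fixer π b : Subgroup G) ≤ Nat.card K ∧
      (Nat.card K ≤ N * Nat.card (K ⊓ fixer π b : Subgroup G) →
        ∀ z ∈ K, ∀ k : Fin n, (k : ℕ) = b → orbMem P pos N (π z k : Fin n) = true) := by
  classical
  have hreal : Realised π (K ⊓ fixer π b) T' := by
    intro j hj
    simp only [List.all_eq_true, decide_eq_true_eq] at hws
    have hj' : j < ws.length := hlen ▸ hj
    obtain ⟨z, hz, hzk⟩ := realised_scan π hT ws[j] (hws _ (List.getElem_mem hj'))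
    refine ⟨z, Subgroup.mem_inf.mpr ⟨hz, mem_fixer.2 fun k hk => Fin.ext ?_⟩, fun k => ?_⟩
    · rw [hzk, hk]
      exact fixesAll_spec _ _ _ hfix _ (List.getElem_mem hj')
    · have := Nat.eq_of_beq_eq_true (allFrom_spec _ _ _ (hcomp k k.2) j (Nat.zero_le _) (by omega))
      rw [List.getD_eq_getElem _ _ hj'] at this
      rw [hzk, this]
  have hspec : ∀ i < N, pos.get 20 (P.get 20 i) = i ∧ (i = 0 ∨ (par.get 24 i >>> 4 < i ∧
      par.get 24 i &&& 15 < T.length ∧ act T (par.get 24 i &&& 15) (P.get 20 (par.get 24 i >>> 4)) = P.get 20 i)) := by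
    intro i hi
    have h := hstep i hi
    unfold stepOK at h
    simp only [strict_eq, Bool.and_eq_true, Bool.or_eq_true] at h
    refine ⟨Nat.eq_of_beq_eq_true h.1, ?_⟩
    rcases h.2 with h0 | ⟨⟨h1, h2⟩, h3⟩
    · exact Or.inl (Nat.eq_of_beq_eq_true h0)
    · exact Or.inr ⟨Nat.le_of_ble_eq_true h1, Nat.le_of_ble_eq_true h2, Nat.eq_of_beq_eq_true h3⟩
  have hreach : ∀ i < N, ∃ z : K, ((π (z : G) ⟨b, hb⟩ : Fin n) : ℕ) = P.get 20 i := by
    intro i
    induction i using Nat.strong_induction_on with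
    | _ i ih =>
      intro hi
      rcases (hspec i hi).2 with h0 | ⟨hj, hx, hxe⟩
      · exact ⟨1, by simp [h0, Nat.eq_of_beq_eq_true hP]⟩
      · obtain ⟨z, hz⟩ := ih _ hj (by omega)
        obtain ⟨y, hy, hyk⟩ := hT _ hx
        refine ⟨⟨y, hy⟩ * z, ?_⟩
        rw [Subgroup.coe_mul, map_mul, Equiv.Perm.mul_apply, hyk, hz, hxe]
  choose z hz using hreach
  have hinj : ∀ {I : Type} (f : I → K),
      Function.Injective (fun i => π (f i : G) ⟨b, hb⟩) →
      Nat.card I * Nat.card (K ⊓ fixer π b : Subgroup G) ≤ Nat.card K := by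
    intro I f hf
    rw [← Nat.card_prod]
    refine Nat.card_le_card_of_injective
      (fun p : I × (K ⊓ fixer π b : Subgroup G) => f p.1 * (⟨p.2, (Subgroup.mem_inf.mp p.2.2).1⟩ : K)) ?_
    rintro ⟨i, u⟩ ⟨j, v⟩ h
    have hu : ∀ u : (K ⊓ fixer π b : Subgroup G), π (u : G) ⟨b, hb⟩ = ⟨b, hb⟩ :=
      fun u => mem_fixer.1 (Subgroup.mem_inf.mp u.2).2 _ rfl
    have h' := congrArg (fun y : K => π (y : G) ⟨b, hb⟩) h
    simp only [Subgroup.coe_mul, map_mul, Equiv.Perm.mul_apply, hu] at h'
    obtain rfl : i = j := hf h'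
    simp only [mul_right_inj] at h
    exact Prod.ext rfl (Subtype.ext (by simpa using congrArg Subtype.val h))
  have hNinj : Function.Injective (fun i : Fin N => π (z i i.2 : G) ⟨b, hb⟩) := fun i j h => Fin.ext (by
    have h := congrArg Fin.val h
    simp only [hz] at h
    rw [← (hspec i i.2).1, h, (hspec j j.2).1])
  refine ⟨hreal, ?_, fun hle w hw k hk => ?_⟩
  · have := hinj (fun i : Fin N => z i i.2) hNinj
    rwa [Nat.card_fin] at this
  obtain rfl : k = ⟨b, hb⟩ := Fin.ext hk
  by_contra hout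
  have hnew : ∀ i : Fin N, π (z i i.2 : G) ⟨b, hb⟩ ≠ π w ⟨b, hb⟩ := by
    intro i he
    apply hout
    have he' := congrArg Fin.val he
    rw [hz] at he'
    simp [orbMem, strict_eq, Nat.blt_eq, ← he', (hspec i i.2).1, i.2]
  have hbig : Function.Injective (fun o : Option (Fin N) =>
      π (((o.elim ⟨w, hw⟩ fun i => z i i.2) : K) : G) ⟨b, hb⟩) := by
    rintro (_ | i) (_ | j) h
    · rfl
    · exact absurd h.symm (hnew j)
    · exact absurd h (hnew i)
    · exact congrArg some (hNinj h)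
  have hcard := (hinj _ hbig).trans hle
  rw [Finite.card_option, Nat.card_fin] at hcard
  have hpos : 0 < Nat.card (K ⊓ fixer π b : Subgroup G) := Nat.card_pos
  nlinarith

/-- The stabiliser of the first point. -/
theorem fixer_zero_le (hn : 0 < n) (H : Subgroup G) (hc : CoversCosets ⊤ H n)
    (hfix : ∀ h ∈ H, π h ⟨0, hn⟩ = ⟨0, hn⟩) (htr : ∀ k : Fin n, ∃ z : G, π z ⟨0, hn⟩ = k) :
    (⊤ : Subgroup G) ⊓ fixer π 0 = H := by
  refine le_antisymm (fun z hz => ?_) (fun z hz => ⟨trivial, mem_fixer.2 fun k hk => ?_⟩)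
  · have hz0 : π z ⟨0, hn⟩ = ⟨0, hn⟩ := mem_fixer.1 (Subgroup.mem_inf.1 hz).2 _ rfl
    have h1 : ((z : G) : G ⧸ H) = ((1 : G) : G ⧸ H) :=
      (cosetPt_bijective hn π H hc hfix htr).1 (by
        rw [cosetPt_mk, cosetPt_mk, hz0, map_one, Equiv.Perm.one_apply])
    simpa using QuotientGroup.eq.mp h1.symm
  · obtain rfl : k = ⟨0, hn⟩ := Fin.ext hk
    exact hfix z hz

end CfsgLib.CosetEnum.Rigid
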