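import Cfsg.Agent.Lib.CosetEnum.Perm

/-!
Exact index, coset-orbit sizes and order bounds from coset-enumeration certificates.
-/

set_option autoImplicit false

namespace CfsgLib.CosetEnum

variable {G : Type*} [Group G]

/-- `n` representatives meet every coset of `H` that lies in `K`. -/
def CoversCosets (K H : Subgroup G) (n : ℕ) : Prop :=
  ∃ u : ℕ → G, ∀ z ∈ K, ∃ k < n, z * (u k)⁻¹ ∈ H

/-- Everything in one certificate. -/
theorem coversCosets_of_cert {g : ℕ → G} {ip : ℕ} (h15 : g 15 = 1)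
    (hinv : ∀ x < 16, g (linv ip x) = (g x)⁻¹) (nl : ℕ) (hnl : nl ≤ 16) (hgen : ∀ x < 16, x < nl ∨ g x = 1)
    (K H : Subgroup G) (hK : K ≤ Subgroup.closure (g '' Set.Iio 16))
    (ls : List (List ℕ)) (hls : ∀ l ∈ ls, (∀ x ∈ l, x < 16) ∧ (l.map g).prod = 1)
    (lsub : List (List ℕ)) (hlsub : ∀ l ∈ lsub, (∀ x ∈ l, x < 16) ∧ (l.map g).prod ∈ H)
    (F W S L E : Tr) (T : List Tr) (wb per sper N nf n : ℕ) (hT : T.length = nl) (hn : 0 < n)
    (hWf : W.fits wb per = true) (hWe : listEq (W.entries wb per) (allCodes ip nl ls) = true)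
    (hSf : S.fits wb sper = true) (hSe : listEq (S.entries wb sper) (subCodes ip lsub) = true)
    (hall : ∀ j < nf, ∃ item, checkFact F ip W wb S N j item = true)
    (hL : Nat.beq (L.get 20 0) 0 = true) (hrows : ∀ k < n, checkRow F ip L E n nl nf k T 0 = true) :
    CoversCosets K H n := by
  subst hT
  refine ⟨fun k => rep g F (L.get 20 k), fun z hz => ?_⟩
  exact exists_coset_rep h15 hinv F W wb S N nf L E T n
    (words_ok h15 hinv _ hnl ls hls W wb per hWf hWe) (subs_ok h15 hinv H lsub hlsub S wb sper hSf hSe)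
    hall hn (Nat.eq_of_beq_eq_true hL) hrows hgen z (hK hz)

/-- A coset bound gives finiteness and an order bound. -/
theorem CoversCosets.card_le {K H : Subgroup G} {n : ℕ} (h : CoversCosets K H n) [Finite H] :
    Finite K ∧ Nat.card K ≤ n * Nat.card H := by
  obtain ⟨u, hu⟩ := h
  choose k hk hmem using fun z : K => hu z z.2
  have hinj : Function.Injective (fun z : K => ((⟨k z, hk z⟩ : Fin n), (⟨_, hmem z⟩ : H))) := by
    intro a b hab
    simp only [Prod.mk.injEq, Fin.mk.injEq, Subtype.mk.injEq] at hab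
    obtain ⟨h1, h2⟩ := hab
    rw [h1, mul_left_inj] at h2
    exact Subtype.ext h2
  refine ⟨Finite.of_injective _ hinj, ?_⟩
  have := Nat.card_le_card_of_injective _ hinj
  rwa [Nat.card_prod, Nat.card_fin] at this

/-- The order bound along one step. -/
theorem card_le_step {K H : Subgroup G} {N m c : ℕ} (hc : CoversCosets K H N) (hH : Finite H ∧ Nat.card H ≤ c)
    (hm : m = N * c) : Finite K ∧ Nat.card K ≤ m := by
  obtain ⟨hfin, hle'⟩ := hH
  obtain ⟨hK, hle⟩ := hc.card_le
  exact ⟨hK, hm ▸ hle.trans (Nat.mul_le_mul_left N hle')⟩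

section Exact

variable {n : ℕ} (hn : 0 < n) (π : G →* Equiv.Perm (Fin n)) (H : Subgroup G)

/-- The map from cosets to points. -/
def cosetPt (hfix : ∀ h ∈ H, π h ⟨0, hn⟩ = ⟨0, hn⟩) : G ⧸ H → Fin n :=
  Quotient.lift (fun z => π z ⟨0, hn⟩) fun a b hab => by
    have hab : a⁻¹ * b ∈ H := QuotientGroup.leftRel_apply.mp hab
    calc π a ⟨0, hn⟩ = π a (π (a⁻¹ * b) ⟨0, hn⟩) := by rw [hfix _ hab]
      _ = π b ⟨0, hn⟩ := by rw [← Equiv.Perm.mul_apply, ← map_mul, mul_inv_cancel_left]

theorem cosetPt_mk (hfix : ∀ h ∈ H, π h ⟨0, hn⟩ = ⟨0, hn⟩) (z : G) :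
    cosetPt hn π H hfix (z : G ⧸ H) = π z ⟨0, hn⟩ := rfl

/-- A covering by `n` cosets and a transitive action on `n` points with `H` fixing `0` identify the cosets with the points. -/
theorem cosetPt_bijective (hc : CoversCosets ⊤ H n) (hfix : ∀ h ∈ H, π h ⟨0, hn⟩ = ⟨0, hn⟩)
    (htr : ∀ k : Fin n, ∃ z : G, π z ⟨0, hn⟩ = k) : Function.Bijective (cosetPt hn π H hfix) := by
  obtain ⟨u, hu⟩ := hc
  have hsurj : Function.Surjective (fun k : Fin n => (((u k)⁻¹ : G) : G ⧸ H)) := by
    intro q
    induction q using QuotientGroup.induction_on with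
    | H z =>
      obtain ⟨k, hk, hmem⟩ := hu z⁻¹ trivial
      refine ⟨⟨k, hk⟩, QuotientGroup.eq.mpr ?_⟩
      have := H.inv_mem hmem
      simpa using this
  have hfin : Finite (G ⧸ H) := Finite.of_surjective _ hsurj
  have htr' : Function.Surjective (cosetPt hn π H hfix) := fun k => by
    obtain ⟨z, hz⟩ := htr k
    exact ⟨z, hz⟩
  have h1 := Nat.card_le_card_of_surjective _ hsurj
  have h2 := Nat.card_le_card_of_surjective _ htr'
  exact (Nat.bijective_iff_surjective_and_card _).mpr ⟨htr', le_antisymm h1 h2⟩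

theorem index_eq_of_covers (hc : CoversCosets ⊤ H n) (hfix : ∀ h ∈ H, π h ⟨0, hn⟩ = ⟨0, hn⟩)
    (htr : ∀ k : Fin n, ∃ z : G, π z ⟨0, hn⟩ = k) : H.index = n := by
  rw [Subgroup.index, Nat.card_eq_of_bijective _ (cosetPt_bijective hn π H hc hfix htr)]
  simp

/-- Orbits of `H` on its cosets correspond to orbits on points. -/
theorem orbit_ncard_eq (hc : CoversCosets ⊤ H n) (hfix : ∀ h ∈ H, π h ⟨0, hn⟩ = ⟨0, hn⟩)
    (htr : ∀ k : Fin n, ∃ z : G, π z ⟨0, hn⟩ = k) (q : G ⧸ H) :
    (MulAction.orbit H q).ncard = {k | ∃ h ∈ H, π h (cosetPt hn π H hfix q) = k}.ncard := by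
  have hbij := cosetPt_bijective hn π H hc hfix htr
  rw [← Set.ncard_image_of_injective _ hbij.1]
  congr 1
  ext k
  simp only [Set.mem_image, MulAction.mem_orbit_iff, Set.mem_ofPred_eq]
  constructor
  · rintro ⟨_, ⟨h, rfl⟩, rfl⟩
    refine ⟨h, h.2, ?_⟩
    induction q using QuotientGroup.induction_on with
    | H z => show π h (π z _) = π ((h : G) * z) _; rw [map_mul, Equiv.Perm.mul_apply]
  · rintro ⟨h, hh, rfl⟩
    refine ⟨_, ⟨⟨h, hh⟩, rfl⟩, ?_⟩
    induction q using QuotientGroup.induction_on with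
    | H z => show π (h * z) _ = π h (π z _); rw [map_mul, Equiv.Perm.mul_apply]

end Exact

section Points

variable (T : List Tr) (ip n : ℕ) (hip : ipOK ip = true)
  (hrow : ∀ k < n, rowOK T ip n k = true) (π : G →* Equiv.Perm (Fin n)) (g : ℕ → G)
  (hπ : ∀ x < 16, π (g x) = permOf T ip n hip hrow x)

/-- Row `k` of a tree certificate: `k` is the image of an earlier point. -/
noncomputable def treeOK (T : List Tr) (par : Tr) (sel : List ℕ) (k : ℕ) : Bool :=
  strict (par.get 24 k) fun d => strict (d >>> 4) fun j => strict (sel.getD (d &&& 15) 15) fun x =>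
    Nat.blt j k && Nat.beq (act T x j) k

/-- Count labels in a range, halving it `fuel` times to keep the recursion shallow. -/
noncomputable def countIn (lab : Tr) (v : ℕ) : ℕ → ℕ → ℕ → ℕ :=
  fun fuel => Nat.rec (motive := fun _ => ℕ → ℕ → ℕ)
    (fun lo c => Nat.rec (motive := fun _ => ℕ) 0
      (fun i ih => Bool.rec (motive := fun _ => ℕ) ih (ih + 1) (Nat.beq (lab.get 20 (lo + i)) v)) c)
    (fun _ ih lo c => strict lo fun lo => strict c fun c =>
      strict (ih lo (c / 2)) fun a => strict (ih (lo + c / 2) (c - c / 2)) fun b => a + b) fuel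

/-- Count the points below `c` with a given label. -/
noncomputable def countLab (lab : Tr) (v : ℕ) (c : ℕ) : ℕ := countIn lab v 8 0 c

theorem countIn_eq (lab : Tr) (v : ℕ) : ∀ fuel lo c,
    countIn lab v fuel lo c = ((Finset.range c).filter fun i => lab.get 20 (lo + i) = v).card := by
  intro fuel
  induction fuel with
  | zero =>
    intro lo c
    induction c with
    | zero => simp [countIn]
    | succ c ih =>
      rw [Finset.range_add_one, Finset.filter_insert]
      show Bool.rec (motive := fun _ => ℕ) (countIn lab v 0 lo c) (countIn lab v 0 lo c + 1)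
        (Nat.beq (lab.get 20 (lo + c)) v) = _
      rcases hb : Nat.beq (lab.get 20 (lo + c)) v with _ | _
      · rw [if_neg (fun h => by simp [h] at hb)]
        exact ih
      · rw [if_pos (Nat.eq_of_beq_eq_true hb), Finset.card_insert_of_notMem (by simp)]
        show countIn lab v 0 lo c + 1 = _
        rw [ih]
  | succ f ih =>
    intro lo c
    have h1 : countIn lab v (f + 1) lo c =
        countIn lab v f lo (c / 2) + countIn lab v f (lo + c / 2) (c - c / 2) := by
      unfold countIn
      simp only [strict_eq]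
    rw [h1, ih, ih, Finset.card_filter, Finset.card_filter, Finset.card_filter]
    conv_rhs => rw [show c = c / 2 + (c - c / 2) by omega, Finset.sum_range_add]
    simp only [Nat.add_assoc]

theorem countLab_eq (lab : Tr) (v c : ℕ) :
    countLab lab v c = ((Finset.range c).filter fun i => lab.get 20 i = v).card := by
  simpa [countLab] using countIn_eq lab v 8 0 c

include hπ in
theorem pi_g_linv {x : ℕ} (hx : x < 16) (k : Fin n) : ((π (g (linv ip x)) k : Fin n) : ℕ) = act T x k :=
  pi_linv_apply T ip n hip hrow π g hπ hx k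

include hπ in
theorem transitive_of_tree (hn : 0 < n) (par : Tr) (sel : List ℕ) (hsel : ∀ i, sel.getD i 15 < 16)
    (h : ∀ k < n, (Nat.beq k 0 || treeOK T par sel k) = true) :
    ∀ k : Fin n, ∃ z : G, π z ⟨0, hn⟩ = k := by
  rintro ⟨k, hk⟩
  induction k using Nat.strong_induction_on with
  | _ k ih =>
    have hk' := h k hk
    unfold treeOK at hk'
    simp only [strict_eq, Bool.or_eq_true, Bool.and_eq_true] at hk'
    rcases hk' with h0 | ⟨hj, hx⟩
    · exact ⟨1, Fin.ext (by simp [Nat.eq_of_beq_eq_true h0])⟩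
    · have hj : par.get 24 k >>> 4 < k := Nat.le_of_ble_eq_true hj
      obtain ⟨z, hz⟩ := ih _ hj (by omega)
      refine ⟨g (linv ip (sel.getD (par.get 24 k &&& 15) 15)) * z, Fin.ext ?_⟩
      rw [map_mul, Equiv.Perm.mul_apply, hz, pi_g_linv T ip n hip hrow π g hπ (hsel _)]
      exact Nat.eq_of_beq_eq_true hx

include hπ in
theorem fix_of_words (H : Subgroup G) (hn : 0 < n) (lsub : List (List ℕ))
    (hinv : ∀ x < 16, g (linv ip x) = (g x)⁻¹) (hl : ∀ l ∈ lsub, ∀ x ∈ l, x < 16)
    (hH : H ≤ Subgroup.closure {z | ∃ l ∈ lsub, z = (l.map g).prod})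
    (h : fixesAll T 0 lsub = true) : ∀ w ∈ H, π w ⟨0, hn⟩ = ⟨0, hn⟩ := by
  intro w hw
  have hw' := hH hw
  clear hw
  induction hw' using Subgroup.closure_induction with
  | mem y hy =>
    obtain ⟨l, hmem, rfl⟩ := hy
    have key : π (((invWord ip l).map g).prod) = ((invWord ip l).map (permOf T ip n hip hrow)).prod := by
      rw [map_list_prod, List.map_map]
      congr 1
      exact List.map_congr_left fun x hx => hπ x (invWord_lt l x hx)
    have hfix : π (((invWord ip l).map g).prod) ⟨0, hn⟩ = ⟨0, hn⟩ := by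
      rw [key]
      refine Fin.ext ?_
      rw [prod_invWord_apply T ip n hip hrow l (hl l hmem)]
      exact fixesAll_spec _ _ _ h l hmem
    rw [prod_invWord hinv l (hl l hmem), map_inv, Equiv.Perm.inv_def, Equiv.symm_apply_eq] at hfix
    exact hfix.symm
  | one => simp
  | mul a b _ _ iha ihb => rw [map_mul, Equiv.Perm.mul_apply, ihb, iha]
  | inv a _ iha => rw [map_inv, Equiv.Perm.inv_def, Equiv.symm_apply_eq]; exact iha.symm

end Points

end CfsgLib.CosetEnum
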