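import Cfsg.Agent.Lib.CosetEnum.Index

/-!
Coset-enumeration certificates over any small alphabet of letters, with the facts stored in chunks.
-/

set_option autoImplicit false

namespace CfsgLib.CosetEnum.Letters

/-- The data of one enumeration. -/
structure Cert where
  /-- number of cosets -/
  n : ℕ
  /-- number of defining facts, plus one -/
  N : ℕ
  /-- number of facts -/
  nf : ℕ
  /-- width of the word codes -/
  wb : ℕ
  F : Tr
  W : Tr
  S : Tr
  L : Tr
  E : Tr
  T : List Tr
  items : List (List ℕ)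

/-- Check a list of chunks of items. -/
noncomputable def checkChunks (ip : ℕ) (c : Cert) : List (List ℕ) → ℕ → Bool :=
  List.rec (fun _ => true) (fun it _ ih j => strict j fun j =>
    checkFacts c.F ip c.W c.wb c.S c.N it j && ih (j + it.length))

theorem checkChunks_spec (ip : ℕ) (c : Cert) : ∀ (cs : List (List ℕ)) (j : ℕ), checkChunks ip c cs j = true →
    ∀ i, j ≤ i → i < j + cs.flatten.length → ∃ item, checkFact c.F ip c.W c.wb c.S c.N i item = true := by
  intro cs
  induction cs with
  | nil => intro j _ i h1 h2; simp at h2; omega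
  | cons it rest ih =>
    intro j h i h1 h2
    unfold checkChunks at h
    simp only [strict_eq, Bool.and_eq_true] at h
    rcases Nat.lt_or_ge i (j + it.length) with hlt | hge
    · exact checkFacts_spec _ _ _ _ _ _ it j h.1 i h1 hlt
    · refine ih (j + it.length) ?_ i hge (by simp only [List.flatten_cons, List.length_append] at h2; omega)
      unfold checkChunks
      simp only [strict_eq]
      exact h.2

/-- The total number of items. -/
noncomputable def total : List (List ℕ) → ℕ := List.rec 0 fun it _ ih => it.length + ih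

theorem total_eq (cs : List (List ℕ)) : total cs = cs.flatten.length := by
  induction cs with
  | nil => rfl
  | cons it cs ih => rw [List.flatten_cons, List.length_append, ← ih]; rfl

/-- The whole check. -/
noncomputable def Cert.check (c : Cert) (ip nl : ℕ) (sub ls : List (List ℕ)) : Bool :=
  Nat.beq c.T.length nl && Nat.blt 0 c.n && Nat.ble nl 16 && c.W.fits c.wb 16 &&
    listEq (c.W.entries c.wb 16) (allCodes ip nl ls) && c.S.fits c.wb 16 &&
    listEq (c.S.entries c.wb 16) (subCodes ip sub) &&
    Nat.beq (total c.items) c.nf && checkChunks ip c c.items 0 && Nat.beq (c.L.get 20 0) 0 &&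
    allFrom (fun k => checkRow c.F ip c.L c.E c.n nl c.nf k c.T 0) c.n 0

/-- Soundness of a letter certificate. -/
theorem Cert.covers {X : Type*} [Group X] {g : ℕ → X} {ip nl : ℕ} (h15 : g 15 = 1)
    (hinv : ∀ x < 16, g (linv ip x) = (g x)⁻¹) (hgen : ∀ x < 16, x < nl ∨ g x = 1)
    (K H : Subgroup X) (hK : K ≤ Subgroup.closure (g '' Set.Iio 16))
    (c : Cert) {sub ls : List (List ℕ)} (hc : c.check ip nl sub ls = true)
    (hls : ∀ l ∈ ls, (∀ x ∈ l, x < 16) ∧ (l.map g).prod = 1)
    (hsub : ∀ l ∈ sub, (∀ x ∈ l, x < 16) ∧ (l.map g).prod ∈ H) :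
    CoversCosets K H c.n := by
  simp only [Cert.check, Bool.and_eq_true] at hc
  obtain ⟨⟨⟨⟨⟨⟨⟨⟨⟨⟨hT, hn⟩, hnl⟩, hWf⟩, hWe⟩, hSf⟩, hSe⟩, hnf⟩, hch⟩, hL⟩, hrows⟩ := hc
  exact coversCosets_of_cert (g := g) (ip := ip) h15 hinv nl (Nat.le_of_ble_eq_true hnl) hgen _ _ hK
    ls hls sub hsub c.F c.W c.S c.L c.E c.T c.wb 16 16 c.N c.nf c.n (Nat.eq_of_beq_eq_true hT)
    (Nat.le_of_ble_eq_true hn) hWf hWe hSf hSe
    (fun i hi => checkChunks_spec ip c _ 0 hch i (Nat.zero_le _)
      (by rw [← total_eq, Nat.eq_of_beq_eq_true hnf]; omega))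
    hL (fun k hk => allFrom_spec _ _ _ hrows k (Nat.zero_le _) (by omega))

end CfsgLib.CosetEnum.Letters
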