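import Cfsg.Agent.Lib.CosetEnum.Base

/-!
Orbit certificates for subgroups whose generators act as table columns, index from order, maximality.
-/

set_option autoImplicit false

namespace CfsgLib.CosetEnum

variable {G : Type*} [Group G] {n : ℕ}

/-- The elements acting as columns of `T` generate a subgroup containing `H`. -/
def Generated (π : G →* Equiv.Perm (Fin n)) (H : Subgroup G) (T : List Tr) : Prop :=
  H ≤ Subgroup.closure {z | ∃ j < T.length, ∀ k : Fin n, ((π z k : Fin n) : ℕ) = act T j k}

/-- Orbit certificate row: the label is invariant and every point but the root of its class is the image of a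
point of smaller rank; entries of `par` hold rank, parent and column in bit fields of 16, 28 and 4. -/
noncomputable def orbitRowOK (T : List Tr) (lab par root : Tr) (n k : ℕ) : Bool :=
  strict (lab.get 20 k) fun c =>
    allFrom (fun i => Nat.beq (lab.get 20 (act T i k)) c) T.length 0 &&
      (Nat.beq (root.get 20 c) k ||
        strict (par.get 48 k) fun d => strict ((d >>> 4) &&& 268435455) fun j => strict (d &&& 15) fun x =>
          Nat.blt j n && Nat.blt x T.length && Nat.blt (par.get 48 j >>> 32) (d >>> 32) &&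
            Nat.beq (act T x j) k)

section Orbits

variable (π : G →* Equiv.Perm (Fin n)) (H : Subgroup G) (T : List Tr) (hT : Realised π H T)
  (hgen : Generated π H T) (lab par root : Tr) (hrows : ∀ k < n, orbitRowOK T lab par root n k = true)

include hgen hrows in
theorem label_invariant : ∀ w ∈ H, ∀ k : Fin n, lab.get 20 (π w k : Fin n) = lab.get 20 k := by
  intro w hw
  have hw' := hgen hw
  clear hw
  induction hw' using Subgroup.closure_induction with
  | mem y hy =>
    obtain ⟨i, hi, hy⟩ := hy
    intro k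
    rw [hy]
    have hr := hrows k k.2
    unfold orbitRowOK at hr
    simp only [strict_eq, Bool.and_eq_true] at hr
    exact Nat.eq_of_beq_eq_true (allFrom_spec _ _ _ hr.1 i (Nat.zero_le _) (by simpa using hi))
  | one => intro k; simp
  | mul a b _ _ iha ihb => intro k; rw [map_mul, Equiv.Perm.mul_apply, iha, ihb]
  | inv a _ iha =>
    intro k
    have := iha ((π a⁻¹) k)
    rw [← Equiv.Perm.mul_apply, ← map_mul, mul_inv_cancel, map_one, Equiv.Perm.one_apply] at this
    exact this.symm

include hT hgen hrows in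
/-- The orbit of a root is its label class. -/
theorem orbit_class (r : Fin n) (c : ℕ) (hc : Nat.beq (lab.get 20 r) c = true)
    (hr : Nat.beq (root.get 20 c) r = true) :
    {k | ∃ w ∈ H, π w r = k} = {k : Fin n | lab.get 20 k = c} := by
  have hc := Nat.eq_of_beq_eq_true hc
  have hr := Nat.eq_of_beq_eq_true hr
  ext ⟨k, hk⟩
  simp only [Set.mem_ofPred_eq]
  constructor
  · rintro ⟨w, hw, hwk⟩
    rw [← hc, ← label_invariant π H T hgen lab par root hrows w hw r, hwk]
  · intro hlab
    induction hd : par.get 48 k >>> 32 using Nat.strong_induction_on generalizing k with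
    | _ d ih =>
      have hrow := hrows k hk
      unfold orbitRowOK at hrow
      simp only [strict_eq, Bool.and_eq_true, Bool.or_eq_true] at hrow
      rcases hrow.2 with h0 | ⟨⟨⟨h1, h2⟩, h3⟩, h4⟩
      · refine ⟨1, H.one_mem, ?_⟩
        rw [map_one, Equiv.Perm.one_apply]
        have h0 := Nat.eq_of_beq_eq_true h0
        rw [hlab, hr] at h0
        exact Fin.ext h0
      · have h1 : (par.get 48 k >>> 4) &&& 268435455 < n := Nat.le_of_ble_eq_true h1
        have h2 : par.get 48 k &&& 15 < T.length := Nat.le_of_ble_eq_true h2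
        have h3 : par.get 48 ((par.get 48 k >>> 4) &&& 268435455) >>> 32 < par.get 48 k >>> 32 :=
          Nat.le_of_ble_eq_true h3
        obtain ⟨y, hy, hyk⟩ := hT _ h2
        have hyk' := hyk ⟨_, h1⟩
        rw [Nat.eq_of_beq_eq_true h4] at hyk'
        have hlab' : lab.get 20 ((par.get 48 k >>> 4) &&& 268435455) = c := by
          have h5 := label_invariant π H T hgen lab par root hrows y hy ⟨_, h1⟩
          rw [hyk'] at h5
          exact h5.symm.trans hlab
        obtain ⟨w, hw, hwk⟩ := ih _ (hd ▸ h3) _ h1 hlab' rfl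
        exact ⟨y * w, H.mul_mem hy hw, Fin.ext (by rw [map_mul, Equiv.Perm.mul_apply, hwk]; exact hyk')⟩

include hT hgen hrows in
theorem orbit_class_ncard (r : Fin n) (c : ℕ) (hc : Nat.beq (lab.get 20 r) c = true)
    (hr : Nat.beq (root.get 20 c) r = true) (N : ℕ) (hN : Nat.beq (countLab lab c n) N = true) :
    {k | ∃ w ∈ H, π w r = k}.ncard = N := by
  rw [orbit_class π H T hT hgen lab par root hrows r c hc hr, ← Nat.eq_of_beq_eq_true hN, countLab_eq,
    ← Set.ncard_image_of_injective _ Fin.val_injective, ← Set.ncard_coe_finset]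
  congr 1
  ext i
  simp only [Set.mem_image, Set.mem_ofPred_eq, Finset.coe_filter, Finset.mem_range]
  exact ⟨by rintro ⟨k, hk, rfl⟩; exact ⟨k.2, hk⟩, fun ⟨hi, h⟩ => ⟨⟨i, hi⟩, h, rfl⟩⟩

end Orbits

/-- All sums of sublists. -/
def sums : List ℕ → List ℕ
  | [] => [0]
  | a :: l => sums l ++ (sums l).map (a + ·)

theorem mem_sums (l : List ℕ) : ∀ f : ℕ → Bool,
    ((List.range l.length).map fun i => if f i then l.getD i 0 else 0).sum ∈ sums l := by
  induction l with
  | nil => intro f; simp [sums]
  | cons a l ih =>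
    intro f
    rw [List.length_cons, List.range_succ_eq_map, List.map_cons, List.sum_cons, List.map_map]
    have h := ih fun i => f (i + 1)
    have hmap : (List.range l.length).map ((fun i => if f i then (a :: l).getD i 0 else 0) ∘ Nat.succ) =
        (List.range l.length).map fun i => if f (i + 1) then l.getD i 0 else 0 :=
      List.map_congr_left fun i _ => by simp
    rw [hmap, sums, List.mem_append, List.mem_map]
    cases hf : f 0
    · left; simpa using h
    · right; exact ⟨_, h, by simp⟩

/-- No union of classes containing the class `{0}` has size a proper divisor of `n` other than `1`. -/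
def noBlocks (sizes : List ℕ) (n : ℕ) : Bool :=
  Nat.beq (sizes.getD 0 0) 1 && (sums sizes.tail).all fun s => !(Nat.beq (n % (1 + s)) 0) || Nat.beq s 0 || Nat.beq (1 + s) n

/-- Facts about the classes `0 .. r-1`, where `r = sizes.length`. -/
noncomputable def classesOK (lab root : Tr) (n : ℕ) (sizes : List ℕ) : Bool :=
  allFrom (fun c => Nat.blt (root.get 20 c) n && Nat.beq (lab.get 20 (root.get 20 c)) c &&
    Nat.beq (countLab lab c n) (sizes.getD c 0)) sizes.length 0

/-- A subgroup between the stabiliser of `b` in `K` and `K` is one of the two, when no union of suborbits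
has a possible block size. -/
theorem eq_or_of_le (π : G →* Equiv.Perm (Fin n)) (K H M : Subgroup G) (hHM : H ≤ M) (hMK : M ≤ K) (b : Fin n)
    (hfix : ∀ h ∈ H, π h b = b) (hstab : ∀ z ∈ K, π z b = b → z ∈ H) (m : ℕ)
    (hidx : H.relIndex K = m) (T : List Tr) (hT : Realised π H T) (hgen : Generated π H T)
    (lab par root : Tr) (hrows : ∀ k < n, orbitRowOK T lab par root n k = true) (sizes : List ℕ)
    (hb0 : lab.get 20 b = 0) (hin : ∀ z ∈ K, lab.get 20 (π z b : Fin n) < sizes.length)
    (hclasses : classesOK lab root n sizes = true) (hblocks : noBlocks sizes m = true) : M = H ∨ M = K := by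
  classical
  set B : Finset (Fin n) := Finset.univ.filter fun k => ∃ z ∈ M, π z b = k with hB
  have hcl : ∀ c < sizes.length, root.get 20 c < n ∧ lab.get 20 (root.get 20 c) = c ∧
      countLab lab c n = sizes.getD c 0 := by
    intro c hc'
    have h := allFrom_spec _ _ _ hclasses c (Nat.zero_le _) (by omega)
    simp only [Bool.and_eq_true] at h
    exact ⟨Nat.le_of_ble_eq_true h.1.1, Nat.eq_of_beq_eq_true h.1.2, Nat.eq_of_beq_eq_true h.2⟩
  have hBlab : ∀ k ∈ B, lab.get 20 (k : Fin n) < sizes.length := by
    intro k hk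
    simp only [hB, Finset.mem_filter, Finset.mem_univ, true_and] at hk
    obtain ⟨z, hz, rfl⟩ := hk
    exact hin z (hMK hz)
  have horb : ∀ k k' : Fin n, lab.get 20 k = lab.get 20 k' → k ∈ B → k' ∈ B := by
    intro k k' hkk hk
    have hlt := hBlab k hk
    have heq := orbit_class π H T hT hgen lab par root hrows ⟨_, (hcl _ hlt).1⟩ (lab.get 20 k)
      (by simp [(hcl _ hlt).2.1]) (by simp)
    obtain ⟨w₁, hw₁, he₁⟩ := (Set.ext_iff.mp heq k).mpr (rfl : lab.get 20 (k : Fin n) = _)
    obtain ⟨w₂, hw₂, he₂⟩ := (Set.ext_iff.mp heq k').mpr hkk.symm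
    simp only [hB, Finset.mem_filter, Finset.mem_univ, true_and] at hk ⊢
    obtain ⟨z, hz, hzk⟩ := hk
    refine ⟨w₂ * w₁⁻¹ * z, M.mul_mem (M.mul_mem (hHM hw₂) (M.inv_mem (hHM hw₁))) hz, ?_⟩
    rw [map_mul, map_mul, Equiv.Perm.mul_apply, Equiv.Perm.mul_apply, hzk, map_inv]
    rw [show (π w₁)⁻¹ k = ⟨_, (hcl _ hlt).1⟩ by rw [Equiv.Perm.inv_def, Equiv.symm_apply_eq, he₁], he₂]
  have hcard : B.card = H.relIndex M := by
    have h1 : H.relIndex M = Nat.card (M ⧸ H.subgroupOf M) := rfl
    rw [h1, ← Nat.card_eq_finsetCard]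
    refine (Nat.card_congr (Equiv.ofBijective (fun q : M ⧸ H.subgroupOf M =>
      Quotient.liftOn q (fun z => (⟨π (z : G) b, by
          simp only [hB, Finset.mem_filter, Finset.mem_univ, true_and]; exact ⟨z, z.2, rfl⟩⟩ : B))
        (fun a a' hab => ?_)) ⟨?_, ?_⟩)).symm
    · have hab : a⁻¹ * a' ∈ H.subgroupOf M := QuotientGroup.leftRel_apply.mp hab
      refine Subtype.ext ?_
      have := hfix _ (Subgroup.mem_subgroupOf.mp hab)
      rw [Subgroup.coe_mul, Subgroup.coe_inv, map_mul, Equiv.Perm.mul_apply, map_inv, Equiv.Perm.inv_def,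
        Equiv.symm_apply_eq] at this
      exact this.symm
    · intro p q
      induction p using QuotientGroup.induction_on with
      | H a =>
        induction q using QuotientGroup.induction_on with
        | H a' =>
          intro h
          refine QuotientGroup.eq.mpr (Subgroup.mem_subgroupOf.mpr (hstab _ (K.mul_mem (K.inv_mem (hMK a.2)) (hMK a'.2)) ?_))
          have h' : π (a : G) b = π (a' : G) b := congrArg Subtype.val h
          show π ((a : G)⁻¹ * (a' : G)) b = b
          rw [map_mul, Equiv.Perm.mul_apply, map_inv, Equiv.Perm.inv_def, Equiv.symm_apply_eq]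
          exact h'.symm
    · rintro ⟨k, hk⟩
      simp only [hB, Finset.mem_filter, Finset.mem_univ, true_and] at hk
      obtain ⟨z, hz, rfl⟩ := hk
      exact ⟨((⟨z, hz⟩ : M) : M ⧸ H.subgroupOf M), rfl⟩
  have hdvd : H.relIndex M ∣ m := hidx ▸ Dvd.intro _ (Subgroup.relIndex_mul_relIndex H M K hHM hMK)
  -- the block is a union of classes
  set f : ℕ → Bool := fun c => decide (∃ k ∈ B, lab.get 20 (k : Fin n) = c) with hf
  have hfiber : ∀ c ∈ Finset.range sizes.length, (B.filter fun k => lab.get 20 (k : Fin n) = c).card =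
      if f c = true then sizes.getD c 0 else 0 := by
    intro c hc'
    have hc' := Finset.mem_range.mp hc'
    by_cases h : ∃ k ∈ B, lab.get 20 (k : Fin n) = c
    · rw [if_pos (decide_eq_true h), ← (hcl c hc').2.2, countLab_eq]
      obtain ⟨k, hk, hkc⟩ := h
      refine Finset.card_bij (fun j _ => (j : ℕ)) (fun j hj => ?_) (fun _ _ _ _ h => Fin.ext h) fun j hj => ?_
      · simp only [Finset.mem_filter] at hj ⊢
        exact ⟨Finset.mem_range.mpr j.2, hj.2⟩
      · simp only [Finset.mem_filter, Finset.mem_range] at hj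
        exact ⟨⟨j, hj.1⟩, Finset.mem_filter.mpr ⟨horb k ⟨j, hj.1⟩ (hkc.trans hj.2.symm) hk, hj.2⟩, rfl⟩
    · rw [if_neg (by simpa [hf] using h), Finset.card_eq_zero, Finset.filter_eq_empty_iff]
      exact fun k hk hkc => h ⟨k, hk, hkc⟩
  have hsum : B.card = ((List.range sizes.length).map fun c => if f c then sizes.getD c 0 else 0).sum := by
    rw [Finset.card_eq_sum_card_fiberwise (t := Finset.range sizes.length) (f := fun k : Fin n => lab.get 20 (k : ℕ))
      (fun k hk => Finset.mem_coe.mpr (Finset.mem_range.mpr (hBlab k hk))), Finset.sum_congr rfl hfiber]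
    rfl
  simp only [noBlocks, Bool.and_eq_true, List.all_eq_true, Bool.or_eq_true, Bool.not_eq_true'] at hblocks
  obtain ⟨h01, hblocks⟩ := hblocks
  have h01 := Nat.eq_of_beq_eq_true h01
  rcases hsz : sizes with _ | ⟨a, rest⟩
  · simp [hsz] at h01
  have h0B : f 0 = true := by
    rw [hf, decide_eq_true_iff]
    refine ⟨b, ?_, hb0⟩
    simp only [hB, Finset.mem_filter, Finset.mem_univ, true_and]
    exact ⟨1, M.one_mem, by simp⟩
  rw [hsz] at hsum h01 hblocks
  simp only [List.getD_cons_zero] at h01
  rw [List.length_cons, List.range_succ_eq_map, List.map_cons, List.sum_cons, List.map_map, if_pos h0B] at hsum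
  have hmem := mem_sums rest fun i => f (i + 1)
  have hmap : (List.range rest.length).map ((fun i => if f i then (a :: rest).getD i 0 else 0) ∘ Nat.succ) =
      (List.range rest.length).map fun i => if f (i + 1) then rest.getD i 0 else 0 :=
    List.map_congr_left fun i _ => by simp
  rw [hmap, List.getD_cons_zero, h01] at hsum
  generalize ((List.range rest.length).map fun i => if f (i + 1) then rest.getD i 0 else 0).sum = s at hsum hmem
  rcases hblocks s (by simpa using hmem) with (hb | hb) | hb
  · exfalso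
    have h0 : m % (1 + s) = 0 := Nat.mod_eq_zero_of_dvd (by rw [← hsum, hcard]; exact hdvd)
    simp [h0] at hb
  · left
    have hs : s = 0 := Nat.eq_of_beq_eq_true hb
    have h1 : H.relIndex M = 1 := by omega
    exact le_antisymm (Subgroup.relIndex_eq_one.mp h1) hHM
  · right
    have hb := Nat.eq_of_beq_eq_true hb
    have h1 : H.relIndex M * M.relIndex K = H.relIndex M * 1 := by
      rw [Subgroup.relIndex_mul_relIndex H M K hHM hMK, hidx, mul_one]; omega
    exact le_antisymm hMK (Subgroup.relIndex_eq_one.mp (Nat.eq_of_mul_eq_mul_left (by omega) h1))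

/-- A transitive action, a subgroup fixing a point and a matching order give exactly `n` cosets. -/
theorem covers_of_card [Finite G] (π : G →* Equiv.Perm (Fin n)) (hn : 0 < n) (H : Subgroup G)
    (hfix : ∀ h ∈ H, π h ⟨0, hn⟩ = ⟨0, hn⟩) (htr : ∀ k : Fin n, ∃ z : G, π z ⟨0, hn⟩ = k)
    (hcard : Nat.card G ≤ n * Nat.card H) : CoversCosets ⊤ H n := by
  classical
  have hcp : Function.Surjective (cosetPt hn π H hfix) := fun k => (htr k).elim fun z hz => ⟨z, hz⟩
  have h1 : n ≤ Nat.card (G ⧸ H) := (Nat.card_fin n).symm.le.trans (Nat.card_le_card_of_surjective _ hcp)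
  have h2 : Nat.card (G ⧸ H) * Nat.card H = Nat.card G := Subgroup.index_mul_card H
  have h3 : Nat.card (G ⧸ H) ≤ n := Nat.le_of_mul_le_mul_right (h2.le.trans hcard) Nat.card_pos
  have hbij : Function.Bijective (cosetPt hn π H hfix) :=
    (Nat.bijective_iff_surjective_and_card _).mpr ⟨hcp, by rw [Nat.card_fin]; omega⟩
  choose z hz using htr
  refine ⟨fun k => if h : k < n then (z ⟨k, h⟩)⁻¹ else 1, fun x _ => ?_⟩
  set k := π x⁻¹ ⟨0, hn⟩
  refine ⟨k, k.2, ?_⟩
  simp only [dif_pos k.2, inv_inv, Fin.eta]
  have h4 : ((z k : G) : G ⧸ H) = ((x⁻¹ : G) : G ⧸ H) := hbij.1 (by rw [cosetPt_mk, cosetPt_mk, hz])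
  have h5 := QuotientGroup.eq.mp h4.symm
  simpa using h5

/-- The order of a group is at least the orbit length times the order of a fixing subgroup. -/
theorem card_ge_of_transitive [Finite G] (π : G →* Equiv.Perm (Fin n)) (hn : 0 < n) (H : Subgroup G)
    (hfix : ∀ h ∈ H, π h ⟨0, hn⟩ = ⟨0, hn⟩) (htr : ∀ k : Fin n, ∃ z : G, π z ⟨0, hn⟩ = k) :
    n * Nat.card H ≤ Nat.card G := by
  have hcp : Function.Surjective (cosetPt hn π H hfix) := fun k => (htr k).elim fun z hz => ⟨z, hz⟩
  rw [← Subgroup.index_mul_card H, Subgroup.index]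
  exact Nat.mul_le_mul_right _ ((Nat.card_fin n).symm.le.trans (Nat.card_le_card_of_surjective _ hcp))

/-- Realised columns of words. -/
theorem realised_words (π : G →* Equiv.Perm (Fin n)) {K : Subgroup G} {T : List Tr} (hT : Realised π K T)
    (T' : List Tr) (ws : List (List ℕ)) (hws : (ws.all fun l => l.all fun x => decide (x < T.length)) = true)
    (hlen : ws.length = T'.length) (hcomp : ∀ k < n, compOK T T' ws k = true) : Realised π K T' := by
  intro j hj
  simp only [List.all_eq_true, decide_eq_true_eq] at hws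
  have hj' : j < ws.length := hlen ▸ hj
  obtain ⟨z, hz, hzk⟩ := realised_scan π hT ws[j] (hws _ (List.getElem_mem hj'))
  refine ⟨z, hz, fun k => ?_⟩
  have := Nat.eq_of_beq_eq_true (allFrom_spec _ _ _ (hcomp k k.2) j (Nat.zero_le _) (by omega))
  rw [List.getD_eq_getElem _ _ hj'] at this
  rw [hzk, this]

/-- The subgroup generated by the values of some words. -/
def WordSub (g : ℕ → G) (lsub : List (List ℕ)) : Subgroup G := Subgroup.closure {z | ∃ l ∈ lsub, z = (l.map g).prod}

/-- Columns that follow the words describe the subgroup generated by the words. -/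
theorem wordSub_spec (π : G →* Equiv.Perm (Fin n)) (g : ℕ → G) {ip : ℕ} (hinv : ∀ x < 16, g (linv ip x) = (g x)⁻¹)
    {T : List Tr} (hip : ipOK ip = true) (hrow : ∀ k < n, rowOK T ip n k = true)
    (hπ : ∀ x < 16, π (g x) = permOf T ip n hip hrow x) (lsub : List (List ℕ))
    (hl : (lsub.all fun l => l.all fun x => decide (x < 16)) = true)
    (T' : List Tr) (hlen : lsub.length = T'.length) (hcomp : ∀ k < n, compOK T T' lsub k = true) :
    Realised π (WordSub g lsub) T' ∧ Generated π (WordSub g lsub) T' := by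
  simp only [List.all_eq_true, decide_eq_true_eq] at hl
  have hcol : ∀ j (hj : j < T'.length), ∀ k : Fin n,
      ((π (((lsub[j]'(hlen ▸ hj)).map g).prod)⁻¹ k : Fin n) : ℕ) = act T' j k := by
    intro j hj k
    have hj' : j < lsub.length := hlen ▸ hj
    have := Nat.eq_of_beq_eq_true (allFrom_spec _ _ _ (hcomp k k.2) j (Nat.zero_le _) (by omega))
    rw [List.getD_eq_getElem _ _ hj'] at this
    rw [← this, ← prod_invWord hinv _ (hl _ (List.getElem_mem hj')), map_list_prod, List.map_map,
      List.map_congr_left (f := ⇑π ∘ g) (g := permOf T ip n hip hrow) (fun x hx => hπ x (invWord_lt _ x hx)),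
      prod_invWord_apply T ip n hip hrow _ (hl _ (List.getElem_mem hj'))]
  refine ⟨fun j hj => ⟨_, Subgroup.inv_mem _ (Subgroup.subset_closure ⟨_, List.getElem_mem (hlen ▸ hj), rfl⟩), hcol j hj⟩, ?_⟩
  refine (Subgroup.closure_le _).mpr ?_
  rintro _ ⟨l, hmem, rfl⟩
  obtain ⟨j, hj, rfl⟩ := List.getElem_of_mem hmem
  have hj' : j < T'.length := hlen ▸ hj
  exact inv_mem_iff.mp (Subgroup.subset_closure ⟨j, hj', hcol j hj'⟩)

end CfsgLib.CosetEnum
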