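import Cfsg.Agent.Lib.CosetEnum.Table

/-!
Permutation representations given by packed tables, orbit certificates, and exact index / order theorems.
-/

set_option autoImplicit false

namespace CfsgLib.CosetEnum

/-- Apply column `x` of a table (the identity outside the table). -/
noncomputable def act (T : List Tr) : ℕ → ℕ → ℕ :=
  List.rec (motive := fun _ => ℕ → ℕ → ℕ) (fun _ k => k)
    (fun c _ ih x k => Bool.rec (motive := fun _ => ℕ) (ih (x - 1) k) (c.get 20 k) (Nat.beq x 0)) T

theorem act_eq (T : List Tr) (x k : ℕ) : act T x k = if h : x < T.length then T[x].get 20 k else k := by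
  induction T generalizing x with
  | nil => simp [act]
  | cons c rest ih =>
    cases x with
    | zero => simp [act, Tr.get]
    | succ x =>
      have : act (c :: rest) (x + 1) k = act rest x k := rfl
      rw [this, ih]
      simp

/-- Follow a word in a table. -/
noncomputable def scan (T : List Tr) : List ℕ → ℕ → ℕ :=
  fun l => List.rec (motive := fun _ => ℕ → ℕ) (fun k => k)
    (fun x _ ih k => strict (act T x k) fun k' => ih k') l

theorem scan_nil (T : List Tr) (k : ℕ) : scan T [] k = k := rfl

theorem scan_cons (T : List Tr) (x : ℕ) (l : List ℕ) (k : ℕ) : scan T (x :: l) k = scan T l (act T x k) := by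
  show strict (act T x k) (fun k' => scan T l k') = _
  rw [strict_eq]

/-- All the words in the list fix `k`. -/
noncomputable def fixesAll (T : List Tr) (k : ℕ) : List (List ℕ) → Bool :=
  fun ls => List.rec (motive := fun _ => Bool) true (fun l _ ih => Nat.beq (scan T l k) k && ih) ls

theorem fixesAll_spec (T : List Tr) (k : ℕ) : ∀ ls, fixesAll T k ls = true → ∀ l ∈ ls, scan T l k = k := by
  intro ls
  induction ls with
  | nil => simp
  | cons l rest ih =>
    intro h m hm
    unfold fixesAll at h
    simp only [Bool.and_eq_true] at h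
    rcases List.mem_cons.mp hm with rfl | hm
    · exact Nat.eq_of_beq_eq_true h.1
    · exact ih h.2 m hm

/-- Loop a test over `k .. k + c - 1`, one step at a time. -/
noncomputable def allLin (P : ℕ → Bool) (c : ℕ) : ℕ → Bool :=
  Nat.rec (motive := fun _ => ℕ → Bool) (fun _ => true)
    (fun _ ih k => strict k fun k => P k && ih (k + 1)) c

/-- Loop a test over `k .. k + c - 1`, halving the range `fuel` times to keep the recursion shallow. -/
noncomputable def allSplit (P : ℕ → Bool) : ℕ → ℕ → ℕ → Bool :=
  fun fuel => Nat.rec (motive := fun _ => ℕ → ℕ → Bool) (fun c k => allLin P c k)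
    (fun _ ih c k => strict c fun c => strict k fun k =>
      Bool.rec (motive := fun _ => Bool) (ih (c / 2) k && ih (c - c / 2) (k + c / 2)) (allLin P c k) (Nat.blt c 64)) fuel

/-- Loop a test over `k .. k + c - 1`. -/
noncomputable def allFrom (P : ℕ → Bool) (c k : ℕ) : Bool := allSplit P 20 c k

theorem allLin_spec (P : ℕ → Bool) : ∀ c k, allLin P c k = true → ∀ i, k ≤ i → i < k + c → P i = true := by
  intro c
  induction c with
  | zero => intro k _ i h1 h2; omega
  | succ c ih =>
    intro k h i h1 h2
    unfold allLin at h
    simp only [strict_eq, Bool.and_eq_true] at h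
    rcases Nat.eq_or_lt_of_le h1 with rfl | h1
    · exact h.1
    · exact ih (k + 1) (by unfold allLin; simp only [strict_eq]; exact h.2) i h1 (by omega)

theorem allSplit_spec (P : ℕ → Bool) :
    ∀ fuel c k, allSplit P fuel c k = true → ∀ i, k ≤ i → i < k + c → P i = true := by
  intro fuel
  induction fuel with
  | zero => exact fun c k h => allLin_spec P c k h
  | succ f ih =>
    intro c k h i h1 h2
    unfold allSplit at h
    simp only [strict_eq] at h
    rcases hc : Nat.blt c 64 with _ | _
    · rw [hc] at h
      simp only [Bool.and_eq_true] at h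
      rcases Nat.lt_or_ge i (k + c / 2) with hi | hi
      · exact ih _ _ (by unfold allSplit; simp only [strict_eq]; exact h.1) i h1 hi
      · exact ih _ _ (by unfold allSplit; simp only [strict_eq]; exact h.2) i hi (by omega)
    · rw [hc] at h
      exact allLin_spec P c k h i h1 h2

theorem allFrom_spec (P : ℕ → Bool) (c k : ℕ) (h : allFrom P c k = true) :
    ∀ i, k ≤ i → i < k + c → P i = true :=
  allSplit_spec P 20 c k h

/-- The letter table is an involution. -/
noncomputable def ipOK (ip : ℕ) : Bool := allFrom (fun x => Nat.beq (linv ip (linv ip x)) x) 16 0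

/-- Row `k` of a table is consistent. -/
noncomputable def rowOK (T : List Tr) (ip n k : ℕ) : Bool :=
  allFrom (fun x => Nat.blt (act T x k) n && Nat.beq (act T (linv ip x) (act T x k)) k) 16 0

theorem ipOK_spec {ip : ℕ} (h : ipOK ip = true) {x : ℕ} (hx : x < 16) : linv ip (linv ip x) = x :=
  Nat.eq_of_beq_eq_true (allFrom_spec _ _ _ h x (Nat.zero_le _) (by simpa using hx))

section Perm

variable (T : List Tr) (ip n : ℕ) (hip : ipOK ip = true) (hrow : ∀ k < n, rowOK T ip n k = true)

include hrow in
theorem act_spec {x k : ℕ} (hx : x < 16) (hk : k < n) :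
    act T x k < n ∧ act T (linv ip x) (act T x k) = k := by
  have := allFrom_spec _ _ _ (hrow k hk) x (Nat.zero_le _) (by simpa using hx)
  simp only [Bool.and_eq_true] at this
  exact ⟨Nat.le_of_ble_eq_true this.1, Nat.eq_of_beq_eq_true this.2⟩

/-- The permutation of a letter: the action of the inverse letter, so that products compose as functions. -/
noncomputable def permOf (x : ℕ) : Equiv.Perm (Fin n) :=
  if hx : x < 16 then
    { toFun := fun k => ⟨act T (linv ip x) k, (act_spec T ip n hrow (linv_lt ip x) k.2).1⟩
      invFun := fun k => ⟨act T x k, (act_spec T ip n hrow hx k.2).1⟩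
      left_inv := fun k => Fin.ext (by
        have := (act_spec T ip n hrow (linv_lt ip x) k.2).2
        rw [ipOK_spec hip hx] at this
        exact this)
      right_inv := fun k => Fin.ext (act_spec T ip n hrow hx k.2).2 }
  else 1

theorem permOf_apply {x : ℕ} (hx : x < 16) (k : Fin n) :
    ((permOf T ip n hip hrow x) k : ℕ) = act T (linv ip x) k := by
  rw [permOf, dif_pos hx]; rfl

theorem permOf_linv {x : ℕ} (hx : x < 16) :
    permOf T ip n hip hrow (linv ip x) = (permOf T ip n hip hrow x)⁻¹ := by
  refine eq_inv_of_mul_eq_one_left (Equiv.ext fun k => Fin.ext ?_)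
  rw [Equiv.Perm.mul_apply, Equiv.Perm.one_apply, permOf_apply T ip n hip hrow (linv_lt ip x),
    permOf_apply T ip n hip hrow hx, ipOK_spec hip hx]
  have := (act_spec T ip n hrow (linv_lt ip x) k.2).2
  rwa [ipOK_spec hip hx] at this

theorem prod_invWord_apply : ∀ (l : List ℕ), (∀ x ∈ l, x < 16) → ∀ k : Fin n,
    ((((invWord ip l).map (permOf T ip n hip hrow)).prod k : Fin n) : ℕ) = scan T l k := by
  intro l
  induction l with
  | nil => intro _ k; simp [invWord, scan_nil]
  | cons x rest ih =>
    intro hl k
    have : invWord ip (x :: rest) = invWord ip rest ++ [linv ip x] := by simp [invWord]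
    rw [this, List.map_append, List.prod_append, Equiv.Perm.mul_apply, scan_cons,
      ih (fun y hy => hl y (List.mem_cons_of_mem _ hy))]
    simp only [List.map_cons, List.map_nil, List.prod_cons, List.prod_nil, mul_one]
    rw [permOf_apply T ip n hip hrow (linv_lt ip x), ipOK_spec hip (hl x (by simp))]

theorem prod_eq_one_of_scan (l : List ℕ) (hl : ∀ x ∈ l, x < 16) (h : ∀ k < n, scan T l k = k) :
    (l.map (permOf T ip n hip hrow)).prod = 1 := by
  have h1 : ((invWord ip l).map (permOf T ip n hip hrow)).prod = 1 :=
    Equiv.ext fun k => Fin.ext (by rw [prod_invWord_apply T ip n hip hrow l hl]; exact h k k.2)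
  rw [prod_invWord (g := permOf T ip n hip hrow) (fun x hx => permOf_linv T ip n hip hrow hx) l hl,
    inv_eq_one] at h1
  exact h1

end Perm

section Orbit

variable {G : Type*} [Group G] (T : List Tr) (ip n : ℕ) (hip : ipOK ip = true)
  (hrow : ∀ k < n, rowOK T ip n k = true) (π : G →* Equiv.Perm (Fin n)) (g : ℕ → G)
  (hπ : ∀ x < 16, π (g x) = permOf T ip n hip hrow x)

include hπ in
theorem pi_linv_apply {x : ℕ} (hx : x < 16) (k : Fin n) : ((π (g (linv ip x)) k : Fin n) : ℕ) = act T x k := by
  rw [hπ _ (linv_lt ip x), permOf_apply T ip n hip hrow (linv_lt ip x), ipOK_spec hip hx]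

end Orbit

end CfsgLib.CosetEnum

namespace CfsgLib.CosetEnum

/-- Letters outside the table act trivially. -/
theorem permOf_out (T : List Tr) (ip n : ℕ) (hip : ipOK ip = true) (hrow : ∀ k < n, rowOK T ip n k = true)
    {x : ℕ} (hx : x < 16) (h : Nat.ble T.length (linv ip x) = true) :
    permOf T ip n hip hrow x = 1 := by
  refine Equiv.ext fun k => Fin.ext ?_
  rw [permOf_apply T ip n hip hrow hx, act_eq, dif_neg (by simpa using Nat.le_of_ble_eq_true h)]
  rfl

end CfsgLib.CosetEnum
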