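import Cfsg.Agent.Lib.CosetEnum.Index
import Cfsg.Prelude.Def_SporCoxeter

/-!
Translating the relators of a Coxeter-graph presentation into letter words.
-/

set_option autoImplicit false

namespace CfsgLib.CosetEnum

open Cfsg.Spor

variable {α : Type} [DecidableEq α]

/-- The Coxeter relators as words, for a list `nd` of the nodes. -/
def coxWordsOf (idx : α → ℕ) (edges : List (α × ℕ × α)) (nd : List α) : List (List ℕ) :=
  nd.flatMap fun x => nd.map fun y => (List.replicate (coxLabel edges x y) [idx x, idx y]).flatten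

/-- A word `l` reads a free-group element `r` under every substitution respecting the letter inverses. -/
def Reads (gF : ℕ → FreeGroup α) (ip : ℕ) (r : FreeGroup α) (l : List ℕ) : Prop :=
  ∀ (M : Type) [Group M] (φ : FreeGroup α →* M),
    (∀ x < 16, φ (gF (linv ip x)) = (φ (gF x))⁻¹) → φ r = (l.map fun x => φ (gF x)).prod

theorem reads_cox (gF : ℕ → FreeGroup α) (ip : ℕ) (idx : α → ℕ) (hidx : ∀ a, gF (idx a) = FreeGroup.of a)
    (x y : α) (m : ℕ) :
    Reads gF ip ((FreeGroup.of x * FreeGroup.of y) ^ m) (List.replicate m [idx x, idx y]).flatten := by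
  intro M _ φ _
  induction m with
  | zero => simp
  | succ m ih =>
    rw [pow_succ', map_mul, ih, List.replicate_succ, List.flatten_cons, List.map_append, List.prod_append]
    simp [hidx]

variable (gF : ℕ → FreeGroup α) (ip : ℕ) (idx : α → ℕ) (edges : List (α × ℕ × α)) (nd : List α)
  (extra : List (FreeGroup α)) (ew ls : List (List ℕ))

/-- The data of a translated presentation. -/
structure Translation : Prop where
  hidx : ∀ a, idx a < 16 ∧ gF (idx a) = FreeGroup.of a
  nodes₁ : ∀ x ∈ coxNodes edges, x ∈ nd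
  nodes₂ : ∀ x ∈ nd, x ∈ coxNodes edges
  hextra : List.Forall₂ (Reads gF ip) extra ew
  hls : ls = coxWordsOf idx edges nd ++ ew
  lt16 : ∀ l ∈ ls, ∀ x ∈ l, x < 16

theorem exists_of_forall₂_left {β γ : Type} {R : β → γ → Prop} {as : List β} {bs : List γ}
    (h : List.Forall₂ R as bs) {a : β} (ha : a ∈ as) : ∃ b ∈ bs, R a b := by
  induction h with
  | nil => simp at ha
  | @cons a' b' as' bs' hab _ ih =>
    rcases List.mem_cons.mp ha with rfl | ha
    · exact ⟨b', by simp, hab⟩
    · obtain ⟨b, hb, hR⟩ := ih ha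
      exact ⟨b, by simp [hb], hR⟩

theorem exists_of_forall₂_right {β γ : Type} {R : β → γ → Prop} {as : List β} {bs : List γ}
    (h : List.Forall₂ R as bs) {b : γ} (hb : b ∈ bs) : ∃ a ∈ as, R a b := by
  induction h with
  | nil => simp at hb
  | @cons a' b' as' bs' hab _ ih =>
    rcases List.mem_cons.mp hb with rfl | hb
    · exact ⟨a', by simp, hab⟩
    · obtain ⟨a, ha, hR⟩ := ih hb
      exact ⟨a, by simp [ha], hR⟩

/-- The image of letter `x` in the presented group. -/
def gen (x : ℕ) : PresentedGroup (coxRelators edges ∪ {r | r ∈ extra}) := PresentedGroup.mk _ (gF x)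

theorem inv_of_node {a : α} (ha : a ∈ coxNodes edges) :
    (PresentedGroup.mk (coxRelators edges ∪ {r | r ∈ extra}) (FreeGroup.of a))⁻¹ =
      PresentedGroup.mk _ (FreeGroup.of a) := by
  have h : (FreeGroup.of a * FreeGroup.of a) ^ coxLabel edges a a ∈ coxRelators edges ∪ {r | r ∈ extra} :=
    Or.inl ⟨a, ha, a, ha, rfl⟩
  have h2 := PresentedGroup.one_of_mem h
  simp only [coxLabel, if_true, pow_one, map_mul] at h2
  exact inv_eq_of_mul_eq_one_left h2

variable {gF ip idx edges nd extra ew ls}

theorem Translation.word_eq_one (t : Translation gF ip idx edges nd extra ew ls)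
    (hinv : ∀ x < 16, gen gF edges extra (linv ip x) = (gen gF edges extra x)⁻¹) :
    ∀ l ∈ ls, (∀ x ∈ l, x < 16) ∧ (l.map (gen gF edges extra)).prod = 1 := by
  intro l hl
  refine ⟨t.lt16 l hl, ?_⟩
  rw [t.hls, List.mem_append] at hl
  rcases hl with hl | hl
  · simp only [coxWordsOf, List.mem_flatMap, List.mem_map] at hl
    obtain ⟨x, hx, y, hy, rfl⟩ := hl
    exact (reads_cox gF ip idx (fun a => (t.hidx a).2) x y _ _ (PresentedGroup.mk _) hinv).symm.trans
      (PresentedGroup.one_of_mem (Or.inl ⟨x, t.nodes₂ x hx, y, t.nodes₂ y hy, rfl⟩))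
  · obtain ⟨r, hr, hR⟩ := exists_of_forall₂_right t.hextra hl
    exact (hR _ (PresentedGroup.mk _) hinv).symm.trans (PresentedGroup.one_of_mem (Or.inr hr))

theorem Translation.relator_eq_one (t : Translation gF ip idx edges nd extra ew ls) {M : Type} [Group M]
    (φ : FreeGroup α →* M) (hinv : ∀ x < 16, φ (gF (linv ip x)) = (φ (gF x))⁻¹)
    (hone : ∀ l ∈ ls, (l.map fun x => φ (gF x)).prod = 1) :
    ∀ r ∈ coxRelators edges ∪ {r | r ∈ extra}, φ r = 1 := by
  intro r hr
  rcases hr with ⟨x, hx, y, hy, rfl⟩ | hr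
  · rw [reads_cox gF ip idx (fun a => (t.hidx a).2) x y _ _ φ hinv]
    refine hone _ ?_
    rw [t.hls, List.mem_append]
    left
    simp only [coxWordsOf, List.mem_flatMap, List.mem_map]
    exact ⟨x, t.nodes₁ x hx, y, t.nodes₁ y hy, rfl⟩
  · obtain ⟨l, hl, hR⟩ := exists_of_forall₂_left t.hextra hr
    rw [hR _ φ hinv]
    exact hone _ (t.hls ▸ List.mem_append_right _ hl)

theorem Translation.closure_top (t : Translation gF ip idx edges nd extra ew ls) :
    (⊤ : Subgroup (PresentedGroup (coxRelators edges ∪ {r | r ∈ extra}))) ≤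
      Subgroup.closure (gen gF edges extra '' Set.Iio 16) := by
  rw [← PresentedGroup.closure_range_of (coxRelators edges ∪ {r | r ∈ extra})]
  refine Subgroup.closure_mono ?_
  rintro _ ⟨a, rfl⟩
  exact ⟨idx a, (t.hidx a).1, congrArg _ (t.hidx a).2⟩

/-- A consistent table satisfying every relator word gives a permutation representation. -/
theorem Translation.exists_rep (t : Translation gF ip idx edges nd extra ew ls) (T : List Tr) (n : ℕ)
    (hip : ipOK ip = true) (hrow : ∀ k < n, rowOK T ip n k = true)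
    (hrel : ∀ k < n, fixesAll T k ls = true)
    (hlift : ∀ x < 16, FreeGroup.lift (fun a => permOf T ip n hip hrow (idx a)) (gF x) = permOf T ip n hip hrow x) :
    ∃ π : PresentedGroup (coxRelators edges ∪ {r | r ∈ extra}) →* Equiv.Perm (Fin n),
      ∀ x < 16, π (gen gF edges extra x) = permOf T ip n hip hrow x := by
  let φ := FreeGroup.lift (fun a => permOf T ip n hip hrow (idx a))
  have hinv : ∀ x < 16, φ (gF (linv ip x)) = (φ (gF x))⁻¹ := fun x hx => by
    simp only [φ]
    rw [hlift x hx, hlift _ (linv_lt _ _), permOf_linv T ip n hip hrow hx]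
  have hone : ∀ l ∈ ls, (l.map fun x => φ (gF x)).prod = 1 := fun l hl => by
    rw [List.map_congr_left (fun x hx => hlift x (t.lt16 l hl x hx))]
    exact prod_eq_one_of_scan T ip n hip hrow l (t.lt16 l hl) fun k hk => fixesAll_spec _ _ _ (hrel k hk) l hl
  refine ⟨PresentedGroup.toGroup (t.relator_eq_one φ hinv hone), fun x hx => ?_⟩
  rw [gen, ← hlift x hx]
  generalize gF x = w
  induction w using FreeGroup.induction_on with
  | C1 => simp
  | of a => exact (PresentedGroup.toGroup.of (t.relator_eq_one φ hinv hone)).trans (by simp)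
  | inv_of a h => simp [h]
  | mul u v hu hv => simp [map_mul, hu, hv]

end CfsgLib.CosetEnum
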