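import Cfsg.Agent.Lib.CosetEnum.Simple

/-!
Equality of words, sifting of point tuples and conjugation searches in a permutation representation
read from tables, used to bound outer automorphism groups of presented groups.
-/

set_option autoImplicit false

namespace CfsgLib.CosetEnum.Rigid

open CfsgLib.CosetEnum

variable {G : Type} [Group G] {n : ℕ}

/-! ### Words read in scan order -/

/-- The product of a word whose first letter acts first. -/
def el {M : Type} [Monoid M] (g : ℕ → M) (l : List ℕ) : M := (l.reverse.map g).prod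

theorem el_nil {M : Type} [Monoid M] (g : ℕ → M) : el g [] = 1 := rfl

theorem el_cons {M : Type} [Monoid M] (g : ℕ → M) (x : ℕ) (l : List ℕ) : el g (x :: l) = el g l * g x := by
  simp [el]

theorem el_singleton {M : Type} [Monoid M] (g : ℕ → M) (x : ℕ) : el g [x] = g x := by simp [el]

theorem el_append {M : Type} [Monoid M] (g : ℕ → M) (l m : List ℕ) : el g (l ++ m) = el g m * el g l := by
  simp [el]

theorem map_el {M N : Type} [Monoid M] [Monoid N] (f : M →* N) (g : ℕ → M) (l : List ℕ) :
    f (el g l) = el (fun x => f (g x)) l := by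
  rw [el, el, map_list_prod, List.map_map]
  rfl

theorem el_map {M : Type} [Monoid M] (g : ℕ → M) (s : ℕ → ℕ) (l : List ℕ) :
    el g (l.map s) = el (fun x => g (s x)) l := by
  simp [el, ← List.map_reverse, List.map_map, Function.comp_def]

theorem el_congr {M : Type} [Monoid M] {g g' : ℕ → M} {l : List ℕ} (h : ∀ x ∈ l, g x = g' x) :
    el g l = el g' l := by
  rw [el, el, List.map_congr_left fun x hx => h x (List.mem_reverse.1 hx)]

/-- A word repeated `m` times. -/
def wpow (m : ℕ) (l : List ℕ) : List ℕ := (List.replicate m l).flatten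

theorem el_rep {M : Type} [Monoid M] (g : ℕ → M) (m : ℕ) (l : List ℕ) : el g (wpow m l) = el g l ^ m := by
  induction m with
  | zero => simp [wpow, el_nil]
  | succ m ih =>
    have : wpow (m + 1) l = l ++ wpow m l := by simp [wpow, List.replicate_succ]
    rw [this, el_append, ih, pow_succ]

/-- Every letter is below `nl`. -/
noncomputable def okW (nl : ℕ) (l : List ℕ) : Bool := l.all fun x => Nat.blt x nl

theorem okW_iff {nl : ℕ} {l : List ℕ} : okW nl l = true ↔ ∀ x ∈ l, x < nl := by
  simp [okW, Nat.blt_eq]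

theorem el_reverse (g : ℕ → G) {nl : ℕ} (hinv : ∀ x < nl, (g x)⁻¹ = g x) {l : List ℕ} (hl : okW nl l = true) :
    el g l.reverse = (el g l)⁻¹ := by
  rw [okW_iff] at hl
  induction l with
  | nil => simp [el_nil]
  | cons x l ih =>
    rw [List.reverse_cons, el_append, el_singleton, el_cons, mul_inv_rev, hinv x (hl x (by simp)),
      ih fun y hy => hl y (List.mem_cons_of_mem _ hy)]

/-- Letters `g` act as the columns of `T`. -/
def Acts (π : G →* Equiv.Perm (Fin n)) (g : ℕ → G) (T : List Tr) : Prop :=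
  ∀ x < T.length, ∀ k : Fin n, ((π (g x) k : Fin n) : ℕ) = act T x k

variable {π : G →* Equiv.Perm (Fin n)} {g : ℕ → G} {T : List Tr}

theorem pi_el (hg : Acts π g T) {l : List ℕ} (hl : okW T.length l = true) :
    ∀ k : Fin n, ((π (el g l) k : Fin n) : ℕ) = scan T l k := by
  rw [okW_iff] at hl
  induction l with
  | nil => intro k; simp [el_nil, scan_nil]
  | cons x l ih =>
    intro k
    rw [el_cons, map_mul, Equiv.Perm.mul_apply, scan_cons, ih (fun y hy => hl y (List.mem_cons_of_mem _ hy)),
      hg x (hl x (by simp))]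

/-! ### Chains of stabilisers -/

/-- A level of a chain of point stabilisers. -/
structure Lvl where
  /-- columns acting as elements of the group of this level -/
  T : List Tr
  /-- the point fixed by the next level -/
  b : ℕ
  /-- membership in the orbit of `b` -/
  inOrb : ℕ → Bool
  /-- a word mapping `b` to a point of its orbit -/
  path : ℕ → List ℕ

/-- The subgroup fixing one point. -/
def fixer (π : G →* Equiv.Perm (Fin n)) (b : ℕ) : Subgroup G where
  carrier := {z | ∀ k : Fin n, (k : ℕ) = b → π z k = k}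
  one_mem' := fun k _ => by simp
  mul_mem' := fun {x y} hx hy k hk => by rw [map_mul, Equiv.Perm.mul_apply, hy k hk, hx k hk]
  inv_mem' := fun {x} hx k hk => by rw [map_inv, Equiv.Perm.inv_def, Equiv.symm_apply_eq, hx k hk]

theorem mem_fixer {b : ℕ} {z : G} : z ∈ fixer π b ↔ ∀ k : Fin n, (k : ℕ) = b → π z k = k := Iff.rfl

/-- The levels describe stabilisers down to the trivial subgroup. -/
def Chain (π : G →* Equiv.Perm (Fin n)) : Subgroup G → List Lvl → Prop
  | K, [] => ∀ z ∈ K, z = 1
  | K, L :: r => Realised π K L.T ∧ (∀ z ∈ K, ∀ k : Fin n, (k : ℕ) = L.b → L.inOrb (π z k : Fin n) = true) ∧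
      Chain π (K ⊓ fixer π L.b) r

/-- The base of a chain. -/
def baseOf (Ls : List Lvl) : List ℕ := Ls.map Lvl.b

theorem eq_one_of_fix : ∀ (Ls : List Lvl) (K : Subgroup G), Chain π K Ls →
    ∀ z ∈ K, (∀ b ∈ baseOf Ls, ∀ k : Fin n, (k : ℕ) = b → π z k = k) → z = 1
  | [], K, h, z, hz, _ => h z hz
  | L :: r, K, h, z, hz, hb => eq_one_of_fix r _ h.2.2 z
      (Subgroup.mem_inf.2 ⟨hz, mem_fixer.2 fun k hk => hb L.b (by simp [baseOf]) k hk⟩)
      fun b hb' => hb b (by simp [baseOf] at hb' ⊢; exact Or.inr hb')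

/-- Two words agree on all base points. -/
noncomputable def eqW (T : List Tr) (base : List ℕ) (l m : List ℕ) : Bool :=
  okW T.length l && okW T.length m && base.all fun b => Nat.beq (scan T l b) (scan T m b)

theorem el_eq_of_eqW (hg : Acts π g T) {Ls : List Lvl} (hch : Chain π ⊤ Ls) {l m : List ℕ}
    (h : eqW T (baseOf Ls) l m = true) : el g l = el g m := by
  simp only [eqW, Bool.and_eq_true, List.all_eq_true] at h
  obtain ⟨⟨hl, hm⟩, hb⟩ := h
  refine (inv_mul_eq_one.1 (eq_one_of_fix Ls ⊤ hch _ (Subgroup.mem_top _) fun b hb' k hk => ?_))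
  have e : π (el g l) k = π (el g m) k := Fin.ext (by
    rw [pi_el hg hl, pi_el hg hm, hk]; exact Nat.eq_of_beq_eq_true (hb b hb'))
  rw [map_mul, Equiv.Perm.mul_apply, map_inv, Equiv.Perm.inv_def, Equiv.symm_apply_eq, e]

/-- Some base point distinguishes two words. -/
noncomputable def neqW (T : List Tr) (n : ℕ) (l m : List ℕ) (b : ℕ) : Bool :=
  okW T.length l && okW T.length m && Nat.blt b n && !(Nat.beq (scan T l b) (scan T m b))

theorem el_ne_of_neqW (hg : Acts π g T) {l m : List ℕ} {b : ℕ} (h : neqW T n l m b = true) :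
    el g l ≠ el g m := by
  simp only [neqW, Bool.and_eq_true, Bool.not_eq_true', Nat.blt_eq] at h
  obtain ⟨⟨⟨hl, hm⟩, hb⟩, hne⟩ := h
  intro e
  have h1 := pi_el hg hl ⟨b, hb⟩
  rw [e, pi_el hg hm] at h1
  simp [Nat.beq_eq, h1] at hne

/-! ### Sifting -/

/-- Consecutive entries of width 12 bits. -/
noncomputable def fields (v i : ℕ) : ℕ → List ℕ :=
  fun c => Nat.rec (motive := fun _ => ℕ → List ℕ) (fun _ => [])
    (fun _ ih i => ((v >>> (12 * i)) &&& 4095) :: ih (i + 1)) c i

/-- A certificate that no element of the group of the first level maps `bs` to `ps`; the preimages are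
packed in `v` from entry `i` on. -/
noncomputable def siftFail (n : ℕ) : List Lvl → ℕ → ℕ → List ℕ → List ℕ → Bool
  | [], _, _, bs, ps => (bs.zip ps).any fun e => !(Nat.beq e.1 e.2) && Nat.blt e.1 n
  | L :: r, v, i, b :: bs, p :: ps => Nat.beq b L.b && Nat.blt b n &&
      (!(L.inOrb p) || (okW L.T.length (L.path p) && Nat.beq (scan L.T (L.path p) b) p &&
        Nat.beq bs.length ps.length &&
        ((fields v i ps.length).zip ps).all (fun e => Nat.blt e.1 n && Nat.beq (scan L.T (L.path p) e.1) e.2) &&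
        siftFail n r v (i + ps.length) bs (fields v i ps.length)))
  | _ :: _, _, _, _, _ => false

/-- The element maps the listed points to the listed images. -/
def Maps (π : G →* Equiv.Perm (Fin n)) (z : G) (bs ps : List ℕ) : Prop :=
  ∀ e ∈ bs.zip ps, ∀ k : Fin n, (k : ℕ) = e.1 → ((π z k : Fin n) : ℕ) = e.2

theorem fields_length (v : ℕ) : ∀ c i, (fields v i c).length = c := by
  intro c
  induction c with
  | zero => intro i; rfl
  | succ c ih => intro i; exact congrArg (· + 1) (ih (i + 1))

theorem not_maps_of_siftFail : ∀ (Ls : List Lvl) (K : Subgroup G) (v i : ℕ) (bs ps : List ℕ),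
    Chain π K Ls → siftFail n Ls v i bs ps = true → ∀ z ∈ K, ¬ Maps π z bs ps
  | [], K, v, i, bs, ps, hch, h, z, hz, hmap => by
    simp only [siftFail, List.any_eq_true, Bool.and_eq_true, Bool.not_eq_true', Nat.blt_eq] at h
    obtain ⟨e, he, hne, hlt⟩ := h
    have h1 := hmap e he ⟨e.1, hlt⟩ rfl
    rw [hch z hz, map_one, Equiv.Perm.one_apply] at h1
    simp [Nat.beq_eq, ← h1] at hne
  | L :: r, K, v, i, [], ps, hch, h, z, hz, hmap => by simp [siftFail] at h
  | L :: r, K, v, i, b :: bs, [], hch, h, z, hz, hmap => by simp [siftFail] at h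
  | L :: r, K, v, i, b :: bs, p :: ps, hch, h, z, hz, hmap => by
    simp only [siftFail, Bool.and_eq_true, Nat.blt_eq, Bool.or_eq_true, Bool.not_eq_true',
      List.all_eq_true] at h
    obtain ⟨⟨hb, hbn⟩, h⟩ := h
    have hb : b = L.b := Nat.eq_of_beq_eq_true hb
    obtain ⟨hT, horb, hrest⟩ := hch
    have hzb : ((π z ⟨b, hbn⟩ : Fin n) : ℕ) = p := hmap (b, p) (by simp) ⟨b, hbn⟩ rfl
    rcases h with h | ⟨⟨⟨⟨hw, hwb⟩, hlen⟩, hq⟩, hrec⟩
    · have := horb z hz ⟨b, hbn⟩ hb
      rw [hzb, h] at this
      exact Bool.noConfusion this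
    · obtain ⟨t, ht, htk⟩ := realised_scan π hT (L.path p) (okW_iff.1 hw)
      refine not_maps_of_siftFail r _ v (i + ps.length) bs (fields v i ps.length) hrest hrec (t⁻¹ * z)
        (Subgroup.mem_inf.2 ⟨K.mul_mem (K.inv_mem ht) hz, mem_fixer.2 fun k hk => ?_⟩) ?_
      · obtain rfl : k = ⟨b, hbn⟩ := Fin.ext (hk.trans hb.symm)
        rw [map_mul, Equiv.Perm.mul_apply, map_inv, Equiv.Perm.inv_def, Equiv.symm_apply_eq]
        exact Fin.ext (hzb.trans ((Nat.eq_of_beq_eq_true hwb).symm.trans (htk ⟨b, hbn⟩).symm))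
      · intro e he k hk
        obtain ⟨j, hj, rfl⟩ := List.mem_iff_getElem.1 he
        rw [List.length_zip] at hj
        have hjb : j < bs.length := lt_of_lt_of_le hj (min_le_left _ _)
        have hjq : j < (fields v i ps.length).length := lt_of_lt_of_le hj (min_le_right _ _)
        have hjp : j < ps.length := by rwa [fields_length] at hjq
        simp only [List.getElem_zip] at hk ⊢
        obtain ⟨hqn', hqs⟩ := hq ((fields v i ps.length)[j], ps[j])
          (List.mem_iff_getElem.2 ⟨j, by simp [List.length_zip, fields_length, hjp], by simp [List.getElem_zip]⟩)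
        have hqn : (fields v i ps.length)[j] < n := hqn'
        have h1 : ((π z k : Fin n) : ℕ) = ps[j] := hmap (bs[j], ps[j])
          (List.mem_cons_of_mem _ (List.mem_iff_getElem.2
            ⟨j, by simp [List.length_zip, hjb, hjp], by simp [List.getElem_zip]⟩)) k hk
        have h2 : π t ⟨_, hqn⟩ = π z k := Fin.ext (by rw [htk, h1]; exact Nat.eq_of_beq_eq_true hqs)
        rw [map_mul, Equiv.Perm.mul_apply, map_inv, Equiv.Perm.inv_def, ← h2, Equiv.symm_apply_apply]

/-- A word in the columns of the levels, the deepest level first. -/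
noncomputable def nestScan : List Lvl → List (List ℕ) → ℕ → ℕ
  | L :: r, w :: ws, k => scan L.T w (nestScan r ws k)
  | _, _, k => k

/-- The letters of a nested word. -/
noncomputable def nestOK : List Lvl → List (List ℕ) → Bool
  | L :: r, w :: ws => okW L.T.length w && nestOK r ws
  | _, _ => true

theorem exists_nest : ∀ (Ls : List Lvl) (K : Subgroup G) (ws : List (List ℕ)), Chain π K Ls →
    nestOK Ls ws = true → ∃ z ∈ K, ∀ k : Fin n, ((π z k : Fin n) : ℕ) = nestScan Ls ws k
  | [], K, ws, _, _ => ⟨1, K.one_mem, fun k => by simp [nestScan]⟩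
  | L :: r, K, [], _, _ => ⟨1, K.one_mem, fun k => by simp [nestScan]⟩
  | L :: r, K, w :: ws, h, hok => by
    simp only [nestOK, Bool.and_eq_true] at hok
    obtain ⟨t, ht, htk⟩ := realised_scan π h.1 w (okW_iff.1 hok.1)
    obtain ⟨z, hz, hzk⟩ := exists_nest r _ ws h.2.2 hok.2
    refine ⟨t * z, K.mul_mem ht (Subgroup.mem_inf.1 hz).1, fun k => ?_⟩
    rw [map_mul, Equiv.Perm.mul_apply, htk, hzk]
    rfl

/-! ### Conjugation searches -/

/-- Iterates of a column. -/
noncomputable def iter (col : Tr) : ℕ → ℕ → ℕ :=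
  fun e => Nat.rec (motive := fun _ => ℕ → ℕ) (fun k => k)
    (fun _ ih k => strict (col.get 20 k) fun k' => ih k') e

theorem iter_succ (col : Tr) (e k : ℕ) : iter col (e + 1) k = iter col e (col.get 20 k) := by
  show strict (col.get 20 k) (fun k' => iter col e k') = _
  rw [strict_eq]

/-- The column is the action of a word. -/
noncomputable def colOK (T : List Tr) (w : List ℕ) (col : Tr) (k : ℕ) : Bool :=
  Nat.beq (scan T w k) (col.get 20 k)

theorem pi_iter (hg : Acts π g T) {w : List ℕ} (hw : okW T.length w = true) {col : Tr}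
    (hcol : ∀ k < n, colOK T w col k = true) : ∀ (e : ℕ) (k : Fin n),
    ((π (el g w ^ e) k : Fin n) : ℕ) = iter col e k := by
  intro e
  induction e with
  | zero => intro k; simp [iter]
  | succ e ih =>
    intro k
    rw [iter_succ, pow_succ, map_mul, Equiv.Perm.mul_apply, ih, pi_el hg hw,
      Nat.eq_of_beq_eq_true (hcol k k.2)]

/-- The image of a coded point: code `0` is `q`, code `e + 1` is the `e`-th iterate at `p`. -/
noncomputable def pt (col : Tr) (q p : ℕ) : ℕ → ℕ :=
  fun c => Nat.rec (motive := fun _ => ℕ) q (fun e _ => iter col e p) c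

/-- The data of a search for the `z` with `z * X = Y * z`. -/
structure Search where
  /-- the word of `X` -/
  wX : List ℕ
  /-- its column -/
  colX : Tr
  /-- the word of `Y` -/
  wY : List ℕ
  /-- its column -/
  colY : Tr
  /-- a point fixed by `X` -/
  z0 : ℕ
  /-- a further point -/
  p0 : ℕ
  /-- codes of points spanning a base -/
  codes : List ℕ
  /-- a nested word mapping the base to those points -/
  hw : List (List ℕ)
  /-- preimages of further coded points -/
  extra : List (ℕ × ℕ)
  /-- the fixed points of `Y` -/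
  fixY : List ℕ
  /-- the solutions -/
  found : List (List ℕ)

variable (S : Search) (Ls : List Lvl) (T)

/-- The frame of a search. -/
noncomputable def Search.frameOK : Bool :=
  okW T.length S.wX && okW T.length S.wY && Nat.blt S.z0 n && Nat.blt S.p0 n && Nat.beq (S.colX.get 20 S.z0) S.z0 &&
    nestOK Ls S.hw && Nat.beq S.codes.length (baseOf Ls).length &&
    ((baseOf Ls).zip S.codes).all (fun e => Nat.blt e.1 n && Nat.beq (nestScan Ls S.hw e.1) (pt S.colX S.z0 S.p0 e.2)) &&
    S.extra.all (fun e => Nat.blt e.2 n && Nat.beq (nestScan Ls S.hw e.2) (pt S.colX S.z0 S.p0 e.1))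

/-- Whether a fixed point of `Y` is listed. -/
noncomputable def Search.fixOK (k : ℕ) : Bool :=
  !(Nat.beq (S.colY.get 20 k) k) || S.fixY.any fun q => Nat.beq q k

/-- One candidate: a solution index, or a failure to sift with a further point. -/
noncomputable def Search.candOK (q : ℕ) (W : Tr) (p : ℕ) : Bool :=
  strict (W.get 216 p) fun v => strict (v &&& 4095) fun c =>
    Bool.rec (motive := fun _ => Bool)
      (strict (c - 1) fun j =>
        Bool.rec (motive := fun _ => Bool)
          (siftFail n Ls v 1 (baseOf Ls) (S.codes.map (pt S.colY q p)))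
          (siftFail n Ls v 1 (baseOf Ls ++ [(S.extra.getD j (0, 0)).2])
            (S.codes.map (pt S.colY q p) ++ [pt S.colY q p (S.extra.getD j (0, 0)).1]))
          (Nat.blt 0 c && Nat.blt j S.extra.length))
      (strict ((v >>> 12) &&& 4095) fun j => Nat.blt j S.found.length && okW T.length (S.found.getD j []) &&
        S.codes.all fun e => Nat.beq (scan T (S.found.getD j []) (pt S.colX S.z0 S.p0 e)) (pt S.colY q p e))
      (Nat.beq c 4095)

variable {S Ls T}

theorem Search.solve (hg : Acts π g T) (hch : Chain π ⊤ Ls) (hfr : S.frameOK (n := n) T Ls = true)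
    (hX : ∀ k < n, colOK T S.wX S.colX k = true) (hY : ∀ k < n, colOK T S.wY S.colY k = true)
    (hfix : ∀ k < n, S.fixOK k = true) (Ws : ℕ → Tr)
    (hcand : ∀ q ∈ S.fixY, ∀ p < n, S.candOK (n := n) T Ls q (Ws q) p = true)
    {z : G} (hz : z * el g S.wX = el g S.wY * z) : ∃ l ∈ S.found, z = el g l := by
  simp only [Search.frameOK, Bool.and_eq_true, Nat.blt_eq, List.all_eq_true] at hfr
  obtain ⟨⟨⟨⟨⟨⟨⟨⟨hwX, hwY⟩, hz0⟩, hp0⟩, hz0fix⟩, hnest⟩, hclen⟩, hbase⟩, hextra⟩ := hfr
  obtain ⟨h, -, hh⟩ := exists_nest Ls ⊤ S.hw hch hnest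
  -- images of coded points
  set q : Fin n := π z ⟨S.z0, hz0⟩ with hq
  set p : Fin n := π z ⟨S.p0, hp0⟩ with hp
  have hconj : ∀ e : ℕ, z * el g S.wX ^ e = el g S.wY ^ e * z := fun e => by
    induction e with
    | zero => simp
    | succ e ih => rw [pow_succ, pow_succ, ← mul_assoc, ih, mul_assoc, hz, ← mul_assoc]
  have hpt : ∀ c : ℕ, ∀ k : Fin n, (k : ℕ) = pt S.colX S.z0 S.p0 c →
      ((π z k : Fin n) : ℕ) = pt S.colY q p c := by
    intro c k hk
    cases c with
    | zero =>
      obtain rfl : k = ⟨S.z0, hz0⟩ := Fin.ext hk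
      rfl
    | succ e =>
      have hk' : k = π (el g S.wX ^ e) ⟨S.p0, hp0⟩ := Fin.ext (hk.trans (pi_iter hg hwX hX e ⟨S.p0, hp0⟩).symm)
      have h1 : π z k = π (el g S.wY ^ e) p := by
        rw [hk', ← Equiv.Perm.mul_apply, ← map_mul, hconj, map_mul, Equiv.Perm.mul_apply]
      rw [h1]
      exact pi_iter hg hwY hY e p
  have hqfix : (q : ℕ) ∈ S.fixY := by
    have h0 : π (el g S.wX) ⟨S.z0, hz0⟩ = ⟨S.z0, hz0⟩ := Fin.ext (by
      rw [pi_el hg hwX, Nat.eq_of_beq_eq_true (hX _ hz0)]; exact Nat.eq_of_beq_eq_true hz0fix)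
    have h1 : π (el g S.wY) q = q := by
      rw [hq, ← Equiv.Perm.mul_apply, ← map_mul, ← hz, map_mul, Equiv.Perm.mul_apply, h0]
    have h2 := congrArg Fin.val h1
    rw [pi_el hg hwY, Nat.eq_of_beq_eq_true (hY _ q.2)] at h2
    have h3 := hfix q q.2
    simp only [Search.fixOK, h2, Nat.beq_refl, Bool.not_true, Bool.false_or, List.any_eq_true] at h3
    obtain ⟨q', hq', he⟩ := h3
    rwa [← Nat.eq_of_beq_eq_true he]
  have hmapbase : ∀ e ∈ (baseOf Ls).zip S.codes, ∀ k : Fin n, (k : ℕ) = e.1 →
      ((π (z * h) k : Fin n) : ℕ) = pt S.colY q p e.2 := by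
    intro e he k hk
    rw [map_mul, Equiv.Perm.mul_apply]
    refine hpt _ _ ?_
    rw [hh, hk]
    exact Nat.eq_of_beq_eq_true (hbase e he).2
  have hzipmap : ∀ e ∈ (baseOf Ls).zip (S.codes.map (pt S.colY q p)), ∀ k : Fin n, (k : ℕ) = e.1 →
      ((π (z * h) k : Fin n) : ℕ) = e.2 := by
    intro e he k hk
    rw [List.zip_map_right, List.mem_map] at he
    obtain ⟨e', he', rfl⟩ := he
    exact hmapbase e' he' k hk
  have hc := hcand q hqfix p p.2
  simp only [Search.candOK, strict_eq] at hc
  generalize hb1 : Nat.beq ((Ws q).get 216 p &&& 4095) 4095 = b1 at hc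
  cases b1
  · generalize hb2 : (Nat.blt 0 ((Ws q).get 216 p &&& 4095) &&
      Nat.blt (((Ws q).get 216 p &&& 4095) - 1) S.extra.length) = b2 at hc
    cases b2
    · exact absurd hzipmap (not_maps_of_siftFail Ls ⊤ _ _ _ _ hch hc _ (Subgroup.mem_top _))
    · simp only [Bool.and_eq_true, Nat.blt_eq] at hb2
      have hj := hb2
      refine absurd ?_ (not_maps_of_siftFail Ls ⊤ _ _ _ _ hch hc (z * h) (Subgroup.mem_top _))
      intro e he k hk
      rw [List.zip_append (by rw [List.length_map]; exact (Nat.eq_of_beq_eq_true hclen).symm),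
        List.mem_append] at he
      rcases he with he | he
      · exact hzipmap e he k hk
      · simp only [List.zip_cons_cons, List.zip_nil_left, List.mem_singleton] at he
        subst he
        rw [List.getD_eq_getElem _ _ hj.2] at hk ⊢
        rw [map_mul, Equiv.Perm.mul_apply]
        refine hpt _ _ ?_
        rw [hh, hk]
        exact Nat.eq_of_beq_eq_true (hextra _ (List.getElem_mem hj.2)).2
  · simp only [Bool.and_eq_true, Nat.blt_eq, List.all_eq_true] at hc
    obtain ⟨⟨hj, hok⟩, hall⟩ := hc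
    rw [List.getD_eq_getElem _ _ hj] at hok hall
    refine ⟨_, List.getElem_mem hj, ?_⟩
    generalize S.found[((Ws q).get 216 p >>> 12) &&& 4095] = l at hok hall ⊢
    -- `z * h` and `el l * h` agree on the base
    have hone : (el g l * h)⁻¹ * (z * h) = 1 := by
      refine eq_one_of_fix Ls ⊤ hch _ (Subgroup.mem_top _) fun b hb k hk => ?_
      obtain ⟨j, hjb, hjval⟩ := List.mem_iff_getElem.1 hb
      have hjc : j < S.codes.length := by rw [Nat.eq_of_beq_eq_true hclen]; exact hjb
      have hmem : (b, S.codes[j]) ∈ (baseOf Ls).zip S.codes :=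
        List.mem_iff_getElem.2 ⟨j, by simp [List.length_zip, hjb, hjc], by simp [List.getElem_zip, hjval]⟩
      rw [map_mul, Equiv.Perm.mul_apply, map_inv, Equiv.Perm.inv_def, Equiv.symm_apply_eq]
      refine Fin.ext ((hmapbase _ hmem k hk).trans ?_)
      rw [map_mul, Equiv.Perm.mul_apply, pi_el hg hok, hh, hk,
        Nat.eq_of_beq_eq_true (hbase _ hmem).2]
      exact (Nat.eq_of_beq_eq_true (hall _ (List.getElem_mem hjc))).symm
    exact (mul_right_cancel (inv_mul_eq_one.1 hone)).symm

end CfsgLib.CosetEnum.Rigid
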