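import Cfsg.Agent.Lib.CosetEnum.Cert

/-!
Relator bridges, permutation representations read from tables, and the resulting index and order bounds.
-/

set_option autoImplicit false

namespace CfsgLib.CosetEnum

/-! ### Word codes -/

/-- Pack a list of letters. -/
def codeOf (l : List ℕ) : ℕ := l.foldl push 1

/-- The inverse word. -/
def invWord (ip : ℕ) (l : List ℕ) : List ℕ := (l.map (linv ip)).reverse

/-- All rotations of the relators and their inverses, the free cancellation pairs and the empty word. -/
def allCodes (ip nl : ℕ) (ls : List (List ℕ)) : List ℕ :=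
  (ls.flatMap fun l => [l, invWord ip l].flatMap fun v => (List.range v.length).map fun o => codeOf (v.rotate o))
    ++ (List.range nl).map (fun x => codeOf [x, linv ip x]) ++ [1]

/-- The words of a subgroup and their inverses. -/
def subCodes (ip : ℕ) (ls : List (List ℕ)) : List ℕ :=
  ls.flatMap fun l => [codeOf l, codeOf (invWord ip l)]

/-- Successive nonzero entries of a packed leaf. -/
noncomputable def leafEntries (w : ℕ) : ℕ → ℕ → List ℕ :=
  fun fuel => Nat.rec (motive := fun _ => ℕ → List ℕ) (fun _ => [])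
    (fun _ ih v => Bool.rec (motive := fun _ => List ℕ) ((v &&& (2 ^ w - 1)) :: ih (v >>> w)) [] (Nat.beq v 0)) fuel

/-- All entries of an array with at most `per` entries in each leaf. -/
noncomputable def Tr.entries (w per : ℕ) : Tr → List ℕ :=
  fun t => Tr.rec (motive := fun _ => List ℕ) (fun v => leafEntries w per v) (fun _ _ _ el er => el ++ er) t

/-- Every leaf holds at most `per` entries. -/
noncomputable def Tr.fits (w per : ℕ) : Tr → Bool :=
  fun t => Tr.rec (motive := fun _ => Bool) (fun v => Nat.beq (v >>> (per * w)) 0) (fun _ _ _ el er => el && er) t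

theorem leaf_get_mem (w : ℕ) : ∀ (fuel v i : ℕ), v >>> (fuel * w) = 0 →
    (v >>> (i * w)) &&& (2 ^ w - 1) = 0 ∨ (v >>> (i * w)) &&& (2 ^ w - 1) ∈ leafEntries w fuel v := by
  intro fuel
  induction fuel with
  | zero =>
    intro v i h
    simp only [Nat.zero_mul, Nat.shiftRight_zero] at h
    simp [h]
  | succ fuel ih =>
    intro v i h
    rcases hv : Nat.beq v 0 with _ | _
    · unfold leafEntries
      simp only [hv]
      cases i with
      | zero => simp
      | succ i =>
        have h' : (v >>> w) >>> (fuel * w) = 0 := by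
          rw [← Nat.shiftRight_add]; rw [Nat.succ_mul, Nat.add_comm] at h; exact h
        rcases ih (v >>> w) i h' with h1 | h1
        · left
          rwa [Nat.succ_mul, Nat.add_comm, Nat.shiftRight_add]
        · right
          rw [Nat.succ_mul, Nat.add_comm, Nat.shiftRight_add]
          exact List.mem_cons_of_mem _ h1
    · have : v = 0 := Nat.eq_of_beq_eq_true hv
      simp [this]

theorem get_mem (w per : ℕ) (t : Tr) (h : t.fits w per = true) (i : ℕ) :
    t.get w i = 0 ∨ t.get w i ∈ t.entries w per := by
  induction t generalizing i with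
  | leaf v => exact leaf_get_mem w per v i (Nat.eq_of_beq_eq_true h)
  | node m l r ihl ihr =>
    unfold Tr.fits at h
    simp only [Bool.and_eq_true] at h
    rcases hi : Nat.blt i m with _ | _
    · rcases ihr h.2 (i - m) with h1 | h1
      · left; simpa [Tr.get, hi] using h1
      · right
        simp only [Tr.get, Tr.entries, hi, List.mem_append] at *
        exact Or.inr h1
    · rcases ihl h.1 i with h1 | h1
      · left; simpa [Tr.get, hi] using h1
      · right
        simp only [Tr.get, Tr.entries, hi, List.mem_append] at *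
        exact Or.inl h1

/-- Compare two lists of numbers. -/
noncomputable def listEq : List ℕ → List ℕ → Bool :=
  fun a => List.rec (motive := fun _ => List ℕ → Bool) (fun b => List.rec (motive := fun _ => Bool) true (fun _ _ _ => false) b)
    (fun x _ ih b => List.rec (motive := fun _ => Bool) false (fun y bs _ => Nat.beq x y && ih bs) b) a

theorem listEq_eq : ∀ a b : List ℕ, listEq a b = true → a = b := by
  intro a
  induction a with
  | nil => intro b h; cases b with
    | nil => rfl
    | cons y bs => simp [listEq] at h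
  | cons x xs ih => intro b h; cases b with
    | nil => simp [listEq] at h
    | cons y bs =>
      unfold listEq at h
      simp only [Bool.and_eq_true] at h
      rw [Nat.eq_of_beq_eq_true h.1, ih bs h.2]

section Words

variable {G : Type*} [Group G] {g : ℕ → G} {ip : ℕ}

theorem evalCode_foldl (h15 : g 15 = 1) (l : List ℕ) (hl : ∀ x ∈ l, x < 16) :
    ∀ acc, 1 ≤ acc → evalCode g (l.foldl push acc) = evalCode g acc * (l.map g).prod := by
  induction l with
  | nil => intro acc _; simp
  | cons x xs ih =>
    intro acc hacc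
    rw [List.foldl_cons, ih (fun y hy => hl y (List.mem_cons_of_mem _ hy)) _ (one_le_push _ _ hacc),
      evalCode_push g _ _ h15 hacc (hl x (by simp)), List.map_cons, List.prod_cons, mul_assoc]

theorem evalCode_codeOf (h15 : g 15 = 1) (l : List ℕ) (hl : ∀ x ∈ l, x < 16) :
    evalCode g (codeOf l) = (l.map g).prod := by
  rw [codeOf, evalCode_foldl h15 l hl 1 le_rfl, evalCode_one, one_mul]

theorem prod_invWord (hinv : ∀ x < 16, g (linv ip x) = (g x)⁻¹) (l : List ℕ) (hl : ∀ x ∈ l, x < 16) :
    ((invWord ip l).map g).prod = ((l.map g).prod)⁻¹ := by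
  rw [List.prod_inv_reverse, invWord, List.map_reverse, List.map_map, List.map_map]
  congr 2
  exact List.map_congr_left fun x hx => hinv x (hl x hx)

theorem invWord_lt (l : List ℕ) : ∀ x ∈ invWord ip l, x < 16 := by
  intro x hx
  simp only [invWord, List.mem_reverse, List.mem_map] at hx
  obtain ⟨y, -, rfl⟩ := hx
  exact linv_lt _ _

theorem allCodes_eval (h15 : g 15 = 1) (hinv : ∀ x < 16, g (linv ip x) = (g x)⁻¹) (nl : ℕ) (hnl : nl ≤ 16)
    (ls : List (List ℕ)) (hls : ∀ l ∈ ls, (∀ x ∈ l, x < 16) ∧ (l.map g).prod = 1) :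
    ∀ c ∈ allCodes ip nl ls, evalCode g c = 1 := by
  intro c hc
  simp only [allCodes, List.mem_append, List.mem_flatMap, List.mem_map, List.mem_range,
    List.mem_cons, List.not_mem_nil, or_false] at hc
  rcases hc with (⟨l, hl, v, hv, o, -, rfl⟩ | ⟨x, hx, rfl⟩) | rfl
  · obtain ⟨h1, h2⟩ := hls l hl
    have hv' : (∀ x ∈ v, x < 16) ∧ (v.map g).prod = 1 := by
      rcases hv with rfl | rfl
      · exact ⟨h1, h2⟩
      · exact ⟨invWord_lt l, by rw [prod_invWord hinv l h1, h2, inv_one]⟩
    rw [evalCode_codeOf h15 _ (fun x hx => hv'.1 x (List.mem_rotate.mp hx)), List.map_rotate]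
    exact List.prod_rotate_eq_one_of_prod_eq_one hv'.2 o
  · rw [evalCode_codeOf h15 _ (by intro y hy; simp at hy; rcases hy with rfl | rfl <;> first | omega | exact linv_lt _ _)]
    simp [hinv x (by omega)]
  · exact evalCode_one g

theorem subCodes_eval (h15 : g 15 = 1) (hinv : ∀ x < 16, g (linv ip x) = (g x)⁻¹) (H : Subgroup G)
    (ls : List (List ℕ)) (hls : ∀ l ∈ ls, (∀ x ∈ l, x < 16) ∧ (l.map g).prod ∈ H) :
    ∀ c ∈ subCodes ip ls, evalCode g c ∈ H := by
  intro c hc
  simp only [subCodes, List.mem_flatMap, List.mem_cons, List.not_mem_nil, or_false] at hc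
  obtain ⟨l, hl, rfl | rfl⟩ := hc
  · rw [evalCode_codeOf h15 _ (hls l hl).1]; exact (hls l hl).2
  · rw [evalCode_codeOf h15 _ (invWord_lt l), prod_invWord hinv l (hls l hl).1]
    exact H.inv_mem (hls l hl).2

theorem evalCode_zero : evalCode g 0 = 1 := by
  rw [evalCode, dif_pos (by norm_num)]

theorem words_ok (h15 : g 15 = 1) (hinv : ∀ x < 16, g (linv ip x) = (g x)⁻¹) (nl : ℕ) (hnl : nl ≤ 16)
    (ls : List (List ℕ)) (hls : ∀ l ∈ ls, (∀ x ∈ l, x < 16) ∧ (l.map g).prod = 1) (W : Tr) (wb per : ℕ)
    (hfit : W.fits wb per = true) (heq : listEq (W.entries wb per) (allCodes ip nl ls) = true) (i : ℕ) :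
    evalCode g (W.get wb i) = 1 := by
  rcases get_mem wb per W hfit i with h | h
  · rw [h, evalCode_zero]
  · exact allCodes_eval h15 hinv nl hnl ls hls _ (listEq_eq _ _ heq ▸ h)

theorem subs_ok (h15 : g 15 = 1) (hinv : ∀ x < 16, g (linv ip x) = (g x)⁻¹) (H : Subgroup G)
    (ls : List (List ℕ)) (hls : ∀ l ∈ ls, (∀ x ∈ l, x < 16) ∧ (l.map g).prod ∈ H) (S : Tr) (wb per : ℕ)
    (hfit : S.fits wb per = true) (heq : listEq (S.entries wb per) (subCodes ip ls) = true) (i : ℕ) :
    evalCode g (S.get wb i) ∈ H := by
  rcases get_mem wb per S hfit i with h | h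
  · rw [h, evalCode_zero]; exact H.one_mem
  · exact subCodes_eval h15 hinv H ls hls _ (listEq_eq _ _ heq ▸ h)

end Words

end CfsgLib.CosetEnum
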